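import Mathlib

/-!
The order formula for a four-group acting on a group of odd order with trivial fixed subgroup.
-/

set_option autoImplicit false

namespace Cfsg.Agent.H32.GTwoTwoLocal

open Subgroup

variable {G : Type*} [Group G]

/-- A square root for elements of odd order. -/
noncomputable def oddRoot (x : G) : G := x ^ ((orderOf x + 1) / 2)

theorem oddRoot_mem {K : Subgroup G} {x : G} (hx : x ∈ K) : oddRoot x ∈ K := pow_mem hx _

theorem oddRoot_sq {x : G} (hx : Odd (orderOf x)) : oddRoot x * oddRoot x = x := by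
  obtain ⟨m, hm⟩ := hx
  rw [oddRoot, ← pow_add, hm, show (2 * m + 1 + 1) / 2 + (2 * m + 1 + 1) / 2 = orderOf x + 1 by omega,
    pow_succ, pow_orderOf_eq_one, one_mul]

theorem odd_orderOf_of_mem [Finite G] {K : Subgroup G} (hK : Odd (Nat.card K)) {x : G}
    (hx : x ∈ K) : Odd (orderOf x) :=
  hK.of_dvd_nat (Subgroup.orderOf_dvd_natCard K hx)

theorem eq_of_sq_eq [Finite G] {K : Subgroup G} (hK : Odd (Nat.card K)) {x y : G} (hx : x ∈ K)
    (hy : y ∈ K) (h : x * x = y * y) : x = y := by
  obtain ⟨m, hm⟩ := hK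
  have aux : ∀ w ∈ K, w = (w * w) ^ (m + 1) := fun w hw => by
    have h1 : w ^ (2 * m + 1) = 1 := by
      rw [← hm]
      exact orderOf_dvd_iff_pow_eq_one.1 (Subgroup.orderOf_dvd_natCard K hw)
    rw [← pow_two, ← pow_mul, show 2 * (m + 1) = 2 * m + 1 + 1 by omega, pow_succ, h1, one_mul]
  rw [aux x hx, aux y hy, h]

theorem invol_conj_mul {z : G} (hz : z * z = 1) (x y : G) : z * (x * y) * z = z * x * z * (z * y * z) := by
  calc z * (x * y) * z = z * x * 1 * y * z := by group
    _ = _ := by rw [← hz]; group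

theorem invol_conj_inv {z : G} (hz : z * z = 1) (x : G) : z * x⁻¹ * z = (z * x * z)⁻¹ := by
  have hzi : z⁻¹ = z := inv_eq_of_mul_eq_one_right hz
  rw [mul_inv_rev, mul_inv_rev, hzi, mul_assoc]

theorem invol_conj_invol {z : G} (hz : z * z = 1) (x : G) : z * (z * x * z) * z = x := by
  calc z * (z * x * z) * z = (z * z) * x * (z * z) := by group
    _ = x := by rw [hz]; group

theorem mem_centralizer_iff_conj {z : G} (hz : z * z = 1) {x : G} :
    x ∈ centralizer ({z} : Set G) ↔ z * x * z = x := by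
  rw [mem_centralizer_singleton_iff]
  constructor
  · intro h
    rw [← h, mul_assoc, hz, mul_one]
  · intro h
    calc x * z = z * x * z * z := by rw [h]
      _ = z * x := by rw [mul_assoc _ z z, hz, mul_one]

theorem invol_conj_mem {K : Subgroup G} {z x : G} (hz : z * z = 1)
    (hn : z ∈ normalizer (K : Set G)) (hx : x ∈ K) : z * x * z ∈ K := by
  have h := (mem_normalizer_iff.1 hn x).1 hx
  rwa [inv_eq_of_mul_eq_one_right hz] at h

variable [Finite G]

/-- The decomposition along the fixed and the inverted elements of an involution. -/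
theorem exists_fixed_mul_inverted {K : Subgroup G} (hK : Odd (Nat.card K)) {z : G} (hz : z * z = 1)
    (hn : z ∈ normalizer (K : Set G)) {x : G} (hx : x ∈ K) :
    ∃ c i : G, c ∈ K ∧ z * c * z = c ∧ i ∈ K ∧ z * i * z = i⁻¹ ∧ x = c * i := by
  have hw : (z * x * z)⁻¹ * x ∈ K := mul_mem (inv_mem (invol_conj_mem hz hn hx)) hx
  set w := (z * x * z)⁻¹ * x with hwdef
  have hi : oddRoot w ∈ K := oddRoot_mem hw
  have hsq := oddRoot_sq (odd_orderOf_of_mem hK hw)
  set i := oddRoot w with hidef
  have hzw : z * w * z = w⁻¹ := by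
    rw [hwdef, invol_conj_mul hz, invol_conj_inv hz, invol_conj_invol hz, mul_inv_rev, inv_inv]
  have hzi : z * i * z = i⁻¹ := by
    refine eq_of_sq_eq hK (invol_conj_mem hz hn hi) (inv_mem hi) ?_
    rw [← invol_conj_mul hz, hsq, hzw, ← hsq, mul_inv_rev]
  refine ⟨x * i⁻¹, i, mul_mem hx (inv_mem hi), ?_, hi, hzi, by group⟩
  rw [invol_conj_mul hz, invol_conj_inv hz, hzi, inv_inv]
  calc z * x * z * i = z * x * z * (i * i) * i⁻¹ := by group
    _ = x * i⁻¹ := by rw [hsq, hwdef]; group

theorem fixed_mul_inverted_unique {K : Subgroup G} (hK : Odd (Nat.card K)) {z c c' i i' : G}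
    (hz : z * z = 1) (hc : z * c * z = c) (hc' : z * c' * z = c') (hi : z * i * z = i⁻¹)
    (hi' : z * i' * z = i'⁻¹) (hiK : i ∈ K) (hi'K : i' ∈ K) (h : c * i = c' * i') :
    c = c' ∧ i = i' := by
  have h2 : c * i⁻¹ = c' * i'⁻¹ := by
    rw [← hc, ← hi, ← hc', ← hi', ← invol_conj_mul hz, ← invol_conj_mul hz, h]
  have e : i = i' := by
    refine eq_of_sq_eq hK hiK hi'K ?_
    calc i * i = (c * i⁻¹)⁻¹ * (c * i) := by group
      _ = i' * i' := by rw [h2, h]; group
  subst e
  exact ⟨mul_right_cancel h, rfl⟩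

/-- A fixed-point-free involution inverts a group of odd order. -/
theorem inverts_of_fixedPointFree {K : Subgroup G} (hK : Odd (Nat.card K)) {z : G} (hz : z * z = 1)
    (hn : z ∈ normalizer (K : Set G)) (hV : ∀ x ∈ K, z * x * z = x → x = 1) {x : G} (hx : x ∈ K) :
    z * x * z = x⁻¹ := by
  obtain ⟨c, i, hc, hzc, -, hzi, rfl⟩ := exists_fixed_mul_inverted hK hz hn hx
  rw [hV c hc hzc, one_mul]
  exact hzi

/-- The order formula for a four-group with trivial fixed subgroup. -/
theorem card_eq_mul_of_four {K : Subgroup G} (hK : Odd (Nat.card K)) {z t : G} (hz : z * z = 1)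
    (ht : t * t = 1) (hzt : z * t = t * z) (hnz : z ∈ normalizer (K : Set G))
    (hnt : t ∈ normalizer (K : Set G))
    (hV : K ⊓ centralizer ({z} : Set G) ⊓ centralizer ({t} : Set G) = ⊥) :
    Nat.card K = Nat.card ↥(K ⊓ centralizer ({z} : Set G)) *
      Nat.card ↥(K ⊓ centralizer ({t} : Set G)) * Nat.card ↥(K ⊓ centralizer ({z * t} : Set G)) := by
  classical
  have hw : z * t * (z * t) = 1 := by
    rw [mul_assoc, ← mul_assoc t z t, ← hzt, mul_assoc z t t, ht, mul_one, hz]
  have hwconj : ∀ x : G, z * t * x * (z * t) = z * (t * x * t) * z := fun x => by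
    calc z * t * x * (z * t) = z * t * x * (t * z) := by rw [hzt]
      _ = _ := by group
  have hcomm : ∀ x : G, z * (t * x * t) * z = t * (z * x * z) * t := fun x => by
    calc z * (t * x * t) * z = (z * t) * x * (t * z) := by group
      _ = (t * z) * x * (z * t) := by rw [hzt]
      _ = _ := by group
  have hfix : ∀ x ∈ K, z * x * z = x → t * x * t = x → x = 1 := fun x hx h1 h2 => by
    have : x ∈ K ⊓ centralizer ({z} : Set G) ⊓ centralizer ({t} : Set G) :=
      ⟨⟨hx, (mem_centralizer_iff_conj hz).2 h1⟩, (mem_centralizer_iff_conj ht).2 h2⟩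
    rwa [hV, Subgroup.mem_bot] at this
  -- `z` inverts the fixed elements of `t` and of `z * t`
  have hA : ∀ a ∈ K, t * a * t = a → z * a * z = a⁻¹ := by
    intro a ha h
    refine inverts_of_fixedPointFree (K := K ⊓ centralizer ({t} : Set G))
      (hK.of_dvd_nat (card_dvd_of_le inf_le_left)) hz ?_ (fun x hx hzx => ?_)
      ⟨ha, (mem_centralizer_iff_conj ht).2 h⟩
    · rw [mem_normalizer_iff]
      intro x
      rw [inv_eq_of_mul_eq_one_right hz, mem_inf, mem_inf, mem_centralizer_iff_conj ht,
        mem_centralizer_iff_conj ht, ← hcomm]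
      constructor
      · exact fun ⟨h1, h2⟩ => ⟨invol_conj_mem hz hnz h1, by rw [h2]⟩
      · rintro ⟨h1, h2⟩
        refine ⟨by simpa [invol_conj_invol hz] using invol_conj_mem hz hnz h1, ?_⟩
        simpa [invol_conj_invol hz] using congrArg (fun y => z * y * z) h2
    · exact hfix x hx.1 hzx ((mem_centralizer_iff_conj ht).1 hx.2)
  have hB : ∀ b ∈ K, z * (t * b * t) * z = b → z * b * z = b⁻¹ := by
    intro b hb h
    have hnw : z * t ∈ normalizer (K : Set G) := mul_mem hnz hnt
    refine inverts_of_fixedPointFree (K := K ⊓ centralizer ({z * t} : Set G))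
      (hK.of_dvd_nat (card_dvd_of_le inf_le_left)) hz ?_ (fun x hx hzx => ?_)
      ⟨hb, (mem_centralizer_iff_conj hw).2 (by rw [hwconj]; exact h)⟩
    · rw [mem_normalizer_iff]
      intro x
      rw [inv_eq_of_mul_eq_one_right hz, mem_inf, mem_inf, mem_centralizer_iff_conj hw,
        mem_centralizer_iff_conj hw, hwconj, hwconj, ← hcomm]
      constructor
      · exact fun ⟨h1, h2⟩ => ⟨invol_conj_mem hz hnz h1, by rw [h2]⟩
      · rintro ⟨h1, h2⟩
        refine ⟨by simpa [invol_conj_invol hz] using invol_conj_mem hz hnz h1, ?_⟩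
        simpa [invol_conj_invol hz] using congrArg (fun y => z * y * z) h2
    · have h2 := (mem_centralizer_iff_conj hw).1 hx.2
      rw [hwconj, hcomm, hzx] at h2
      exact hfix x hx.1 hzx h2
  set C := K ⊓ centralizer ({z} : Set G)
  set A := K ⊓ centralizer ({t} : Set G)
  set B := K ⊓ centralizer ({z * t} : Set G)
  have mA : ∀ a : A, (a : G) ∈ K ∧ t * a * t = a := fun a =>
    ⟨a.2.1, (mem_centralizer_iff_conj ht).1 a.2.2⟩
  have mB : ∀ b : B, (b : G) ∈ K ∧ z * (t * b * t) * z = b := fun b =>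
    ⟨b.2.1, by rw [← hwconj]; exact (mem_centralizer_iff_conj hw).1 b.2.2⟩
  -- the fixed elements of `z * t` are inverted by `t`
  have hBt : ∀ b : B, t * (b : G) * t = (b : G)⁻¹ := fun b => by
    have h := congrArg (fun y => z * y * z) (mB b).2
    simp only [invol_conj_invol hz] at h
    rw [h]
    exact hB _ (mB b).1 (mB b).2
  have mI : ∀ (a : A) (b : B), z * ((a : G) * b * a) * z = ((a : G) * b * a)⁻¹ := fun a b => by
    rw [invol_conj_mul hz, invol_conj_mul hz, hA _ (mA a).1 (mA a).2, hB _ (mB b).1 (mB b).2]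
    group
  let f : C × (A × B) → K := fun p => ⟨(p.1 : G) * ((p.2.1 : G) * p.2.2 * p.2.1),
    mul_mem p.1.2.1 (mul_mem (mul_mem p.2.1.2.1 p.2.2.2.1) p.2.1.2.1)⟩
  suffices Function.Bijective f by
    rw [← Nat.card_congr (Equiv.ofBijective f this), Nat.card_prod, Nat.card_prod, mul_assoc]
  -- the key equation determining the square of the `t`-fixed component
  have key : ∀ (a : A) (b : B), (a : G) * a * ((a : G) * b * a)⁻¹ * (a * a) =
      t * ((a : G) * b * a) * t := fun a b => by
    rw [invol_conj_mul ht, invol_conj_mul ht, hBt, (mA a).2]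
    group
  constructor
  · rintro ⟨c, a, b⟩ ⟨c', a', b'⟩ h
    have h' : (c : G) * ((a : G) * b * a) = c' * ((a' : G) * b' * a') := congrArg Subtype.val h
    have hcz : ∀ c : C, z * (c : G) * z = c := fun c => (mem_centralizer_iff_conj hz).1 c.2.2
    have hiK : ∀ (a : A) (b : B), (a : G) * b * a ∈ K := fun a b =>
      mul_mem (mul_mem (mA a).1 (mB b).1) (mA a).1
    obtain ⟨hc, hi⟩ := fixed_mul_inverted_unique hK hz (hcz c) (hcz c') (mI a b) (mI a' b')
      (hiK a b) (hiK a' b') h'
    set i := (a : G) * b * a with hidef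
    set s := oddRoot i⁻¹
    have hs : s * s = i⁻¹ := oddRoot_sq (odd_orderOf_of_mem hK (inv_mem (hiK a b)))
    have hsK : s ∈ K := oddRoot_mem (inv_mem (hiK a b))
    have e1 := key a b
    have e2 := key a' b'
    rw [← hi] at e2
    rw [← hidef] at e1
    have haa : (a : G) * a = a' * a' := by
      have : s * (a * a) * s = s * ((a' : G) * a') * s := by
        refine eq_of_sq_eq hK (mul_mem (mul_mem hsK (mul_mem (mA a).1 (mA a).1)) hsK)
          (mul_mem (mul_mem hsK (mul_mem (mA a').1 (mA a').1)) hsK) ?_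
        calc s * (a * a) * s * (s * (a * a) * s) = s * ((a : G) * a * (s * s) * (a * a)) * s := by
              group
          _ = s * ((a' : G) * a' * (s * s) * (a' * a')) * s := by rw [hs, e1, e2]
          _ = _ := by group
      exact mul_left_cancel (mul_right_cancel this)
    have ha : a = a' := Subtype.ext (eq_of_sq_eq hK (mA a).1 (mA a').1 haa)
    subst ha
    have hb : b = b' := Subtype.ext (mul_left_cancel (mul_right_cancel hi))
    exact Prod.ext (Subtype.ext hc) (Prod.ext rfl hb)
  · rintro ⟨x, hx⟩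
    obtain ⟨c, i, hc, hzc, hi, hzi, rfl⟩ := exists_fixed_mul_inverted hK hz hnz hx
    set s := oddRoot i⁻¹
    have hs : s * s = i⁻¹ := oddRoot_sq (odd_orderOf_of_mem hK (inv_mem hi))
    have hsK : s ∈ K := oddRoot_mem (inv_mem hi)
    have htiK : t * i * t ∈ K := invol_conj_mem ht hnt hi
    have hvK : s * (t * i * t) * s ∈ K := mul_mem (mul_mem hsK htiK) hsK
    set r := oddRoot (s * (t * i * t) * s)
    have hr : r * r = s * (t * i * t) * s := oddRoot_sq (odd_orderOf_of_mem hK hvK)
    set y := s⁻¹ * r * s⁻¹ with hydef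
    have hyK : y ∈ K := mul_mem (mul_mem (inv_mem hsK) (oddRoot_mem hvK)) (inv_mem hsK)
    have hy : y * i⁻¹ * y = t * i * t := by
      calc y * i⁻¹ * y = s⁻¹ * (r * r) * s⁻¹ := by rw [← hs, hydef]; group
        _ = _ := by rw [hr]; group
    have huniq : ∀ y' ∈ K, y' * i⁻¹ * y' = t * i * t → y' = y := fun y' hy' h => by
      have : s * y' * s = s * y * s := by
        refine eq_of_sq_eq hK (mul_mem (mul_mem hsK hy') hsK) (mul_mem (mul_mem hsK hyK) hsK) ?_
        calc s * y' * s * (s * y' * s) = s * (y' * (s * s) * y') * s := by group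
          _ = s * (y * (s * s) * y) * s := by rw [hs, h, hy]
          _ = _ := by group
      exact mul_left_cancel (mul_right_cancel this)
    have hty : t * y * t = y := by
      refine huniq _ (invol_conj_mem ht hnt hyK) ?_
      have h : t * y * t * (t * i * t)⁻¹ * (t * y * t) = i := by
        rw [← invol_conj_inv ht, ← invol_conj_mul ht, ← invol_conj_mul ht, hy, invol_conj_invol ht]
      calc t * y * t * i⁻¹ * (t * y * t)
          = t * y * t * (t * y * t * (t * i * t)⁻¹ * (t * y * t))⁻¹ * (t * y * t) := by rw [h]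
        _ = t * i * t := by group
    set a := oddRoot y with hadef
    have haK : a ∈ K := oddRoot_mem hyK
    have ha : t * a * t = a := by
      refine eq_of_sq_eq hK (invol_conj_mem ht hnt haK) haK ?_
      rw [← invol_conj_mul ht, oddRoot_sq (odd_orderOf_of_mem hK hyK), hty]
    have haa : a * a = y := oddRoot_sq (odd_orderOf_of_mem hK hyK)
    set b := a⁻¹ * i * a⁻¹ with hbdef
    have hbK : b ∈ K := mul_mem (mul_mem (inv_mem haK) hi) (inv_mem haK)
    have hb : z * (t * b * t) * z = b := by
      have h1 : t * b * t = b⁻¹ := by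
        rw [hbdef, invol_conj_mul ht, invol_conj_mul ht, invol_conj_inv ht, ha, ← hy, ← haa]
        group
      rw [h1, invol_conj_inv hz, hbdef, invol_conj_mul hz, invol_conj_mul hz, invol_conj_inv hz,
        hA a haK ha, hzi]
      group
    refine ⟨(⟨c, hc, (mem_centralizer_iff_conj hz).2 hzc⟩,
      (⟨a, haK, (mem_centralizer_iff_conj ht).2 ha⟩,
       ⟨b, hbK, (mem_centralizer_iff_conj hw).2 (by rw [hwconj]; exact hb)⟩)), Subtype.ext ?_⟩
    show c * (a * b * a) = c * i
    rw [hbdef]; group

end Cfsg.Agent.H32.GTwoTwoLocal
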