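import Cfsg.Agent.H32.GTwoTwoLocal.Model
import Cfsg.Agent.H32.GTwoTwoLocal.Four

/-!
The centralizer of the involution of a configuration.
-/

set_option autoImplicit false

namespace Cfsg.Agent.H32.GTwoTwoLocal

open Subgroup
open Cfsg.Agent.H32.GTwoRec (M23 upper lower Mat3)

universe u

theorem Pair.ext' {p q : Pair} (h1 : (p : M23 × M23).1 = (q : M23 × M23).1)
    (h2 : (p : M23 × M23).2 = (q : M23 × M23).2) : p = q := Subtype.ext (Prod.ext h1 h2)

theorem delta_upper : delta * upper = upper⁻¹ * delta := M23.ext_val (by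
  rw [Units.val_mul, Units.val_mul]; decide)

theorem delta_sq : delta * delta = 1 := M23.ext_val (by rw [Units.val_mul, Units.val_one]; decide)

theorem delta_quarter : delta * quarter = quarter⁻¹ * delta := M23.ext_val (by
  rw [Units.val_mul, Units.val_mul]; decide)

theorem quarter_delta : quarter * delta = -(delta * quarter) := M23.ext_val (by
  rw [val_neg, Units.val_mul, Units.val_mul]; decide)

/-- Exchange of the two factors. -/
def swapPair : Pair →* Pair :=
  ((MulEquiv.prodComm : M23 × M23 ≃* M23 × M23).toMonoidHom.comp Pair.subtype).codRestrict Pair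
    fun p => mem_Pair.2 (mem_Pair.1 p.2).symm

theorem swapPair_swap (p : Pair) : swapPair (swapPair p) = p := rfl

namespace Cfg

variable {G : Type u} [Group G] (c : Cfg G)

theorem phi_eq_iff {p q : Pair} : c.φ p = c.φ q ↔ p = q ∨ p = q * pNeg := by
  rw [← inv_mul_eq_one (a := c.φ p), ← map_inv, ← map_mul, c.ker]
  constructor
  · rintro (h | h)
    · exact Or.inl (inv_mul_eq_one.1 h)
    · refine Or.inr ?_
      rw [inv_mul_eq_iff_eq_mul.1 h, mul_assoc,
        show pNeg * pNeg = 1 from Pair.ext' (neg_mul_neg 1 1 |>.trans (one_mul 1))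
          (neg_mul_neg 1 1 |>.trans (one_mul 1)), mul_one]
  · rintro (rfl | rfl)
    · exact Or.inl (inv_mul_cancel p)
    · refine Or.inr (Pair.ext' ?_ ?_) <;>
      · simp [pNeg]

theorem phi_comm_iff {p q : Pair} :
    c.φ p * c.φ q = c.φ q * c.φ p ↔
      ((p : M23 × M23).1 * (q : M23 × M23).1 = (q : M23 × M23).1 * (p : M23 × M23).1 ∧
        (p : M23 × M23).2 * (q : M23 × M23).2 = (q : M23 × M23).2 * (p : M23 × M23).2) ∨
      ((p : M23 × M23).1 * (q : M23 × M23).1 = -((q : M23 × M23).1 * (p : M23 × M23).1) ∧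
        (p : M23 × M23).2 * (q : M23 × M23).2 = -((q : M23 × M23).2 * (p : M23 × M23).2)) := by
  rw [← map_mul, ← map_mul, c.phi_eq_iff]
  simp only [Subtype.ext_iff, Prod.ext_iff, Subgroup.coe_mul, Prod.fst_mul, Prod.snd_mul, pNeg,
    mul_neg, mul_one]

theorem mem_C {g : G} : g ∈ centralizer ({c.z} : Set G) ↔ ∃ p, c.φ p = g := by
  rw [z, ← c.range, MonoidHom.mem_range]

theorem phi_mem (p : Pair) : c.φ p ∈ centralizer ({c.z} : Set G) := c.mem_C.2 ⟨p, rfl⟩

theorem z_eq : c.φ (swapPair pZ) = c.z :=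
  c.phi_eq_iff.2 (Or.inr (Pair.ext' (by simp [swapPair, pZ, pNeg]) (by simp [swapPair, pZ, pNeg])))

/-- The configuration with the two factors exchanged. -/
def swap : Cfg G where
  φ := c.φ.comp swapPair
  ker p := by
    rw [MonoidHom.comp_apply, c.ker]
    constructor <;> rintro (h | h)
    · exact Or.inl (by rw [← swapPair_swap p, h, map_one])
    · exact Or.inr (by rw [← swapPair_swap p, h]; rfl)
    · exact Or.inl (by rw [h, map_one])
    · exact Or.inr (by rw [h]; rfl)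
  range := by
    have h : swapPair.range = ⊤ :=
      MonoidHom.range_eq_top.2 fun p => ⟨swapPair p, swapPair_swap p⟩
    rw [MonoidHom.comp_apply, z_eq, MonoidHom.range_comp, h, ← MonoidHom.range_eq_map, c.range]
    rfl
  one v hv := by rw [MonoidHom.comp_apply, z_eq]; exact c.one v hv
  plen := c.plen

theorem swap_z : c.swap.z = c.z := c.z_eq
theorem swap_t : c.swap.t = c.t := rfl
theorem swap_d₁ : c.swap.d₁ = c.d₂ := rfl
theorem swap_d₂ : c.swap.d₂ = c.d₁ := rfl
theorem swap_D₁ : c.swap.D₁ = c.D₂ := rfl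
theorem swap_D₂ : c.swap.D₂ = c.D₁ := rfl

theorem pow_ne_one_of_ne {p : Pair} (h : p ≠ 1) (h' : p ≠ pNeg) : c.φ p ≠ 1 := fun e =>
  (c.ker p).1 e |>.elim h h'

theorem z_ne_one : c.z ≠ 1 := by
  refine c.pow_ne_one_of_ne (fun e => ?_) fun e => ?_
  · have := congrArg (fun p : Pair => (((p : M23 × M23).1 : M23) : Mat3) 0 0) e
    simp [pZ] at this
    exact absurd this (by decide)
  · have := congrArg (fun p : Pair => (((p : M23 × M23).2 : M23) : Mat3) 0 0) e
    simp [pZ, pNeg] at this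
    exact absurd this (by decide)

theorem z_sq : c.z * c.z = 1 := by
  rw [z, ← map_mul, show pZ * pZ = 1 from Pair.ext' (by simp [pZ]) (by simp [pZ]), map_one]

theorem orderOf_z : orderOf c.z = 2 := orderOf_eq_prime (by rw [pow_two, c.z_sq]) c.z_ne_one

theorem t_sq : c.t * c.t = 1 := by
  rw [t, ← map_mul, show pT * pT = 1 from Pair.ext' delta_sq delta_sq, map_one]

theorem t_ne_one : c.t ≠ 1 := by
  refine c.pow_ne_one_of_ne (fun e => ?_) fun e => ?_ <;>
  · have := congrArg (fun p : Pair => (((p : M23 × M23).1 : M23) : Mat3) 0 0) e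
    have h1 := congrArg (fun p : Pair => (((p : M23 × M23).1 : M23) : Mat3) 1 1) e
    simp [pT, pNeg, delta] at this h1
    first
      | exact absurd this (by decide)
      | exact absurd h1 (by decide)

theorem orderOf_t : orderOf c.t = 2 := orderOf_eq_prime (by rw [pow_two, c.t_sq]) c.t_ne_one

theorem zt_comm : c.z * c.t = c.t * c.z :=
  c.phi_comm_iff.2 (Or.inl ⟨by simp [pZ, pT], by simp [pZ, pT]⟩)

theorem z_comm_of_mem {g : G} (hg : g ∈ centralizer ({c.z} : Set G)) : c.z * g = g * c.z :=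
  (mem_centralizer_singleton_iff.1 hg).symm

theorem d₁_mem : c.d₁ ∈ centralizer ({c.z} : Set G) := c.phi_mem _
theorem d₂_mem : c.d₂ ∈ centralizer ({c.z} : Set G) := c.phi_mem _
theorem t_mem : c.t ∈ centralizer ({c.z} : Set G) := c.phi_mem _
theorem k₂_mem : c.k₂ ∈ centralizer ({c.z} : Set G) := c.phi_mem _

theorem d₁_cube : c.d₁ ^ 3 = 1 := by
  rw [d₁, ← map_pow, show pD1 ^ 3 = 1 from Pair.ext' GTwoRec.upper_cube (one_pow 3), map_one]

theorem d₁_ne_one : c.d₁ ≠ 1 := by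
  refine c.pow_ne_one_of_ne (fun e => GTwoRec.upper_ne_one (congrArg (fun p : Pair => (p : M23 × M23).1) e))
    fun e => ?_
  have := congrArg (fun p : Pair => (((p : M23 × M23).2 : M23) : Mat3) 0 0) e
  simp [pD1, pNeg] at this
  exact absurd this (by decide)

theorem d₂_cube : c.d₂ ^ 3 = 1 := c.swap.d₁_cube
theorem d₂_ne_one : c.d₂ ≠ 1 := c.swap.d₁_ne_one

theorem orderOf_d₁ : orderOf c.d₁ = 3 := orderOf_eq_prime c.d₁_cube c.d₁_ne_one
theorem orderOf_d₂ : orderOf c.d₂ = 3 := c.swap.orderOf_d₁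

theorem d_comm : c.d₁ * c.d₂ = c.d₂ * c.d₁ :=
  c.phi_comm_iff.2 (Or.inl ⟨by simp [pD1, pD2], by simp [pD1, pD2]⟩)

theorem t_d₁ : c.t * c.d₁ * c.t = c.d₁⁻¹ := by
  have h : pT * pD1 = pD1⁻¹ * pT := Pair.ext' delta_upper (by simp [pT, pD1])
  calc c.t * c.d₁ * c.t = c.φ (pT * pD1) * c.t := by rw [map_mul]; rfl
    _ = c.d₁⁻¹ * (c.t * c.t) := by rw [h, map_mul, map_inv]; exact mul_assoc _ _ _
    _ = _ := by rw [c.t_sq, mul_one]

theorem t_d₂ : c.t * c.d₂ * c.t = c.d₂⁻¹ := c.swap.t_d₁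

theorem k₂_sq : c.k₂ * c.k₂ = c.z := by
  rw [k₂, ← map_mul, ← c.z_eq]
  exact congrArg c.φ (Pair.ext' (one_mul 1) quarter_sq)

theorem k₂_d₁ : c.k₂ * c.d₁ = c.d₁ * c.k₂ :=
  c.phi_comm_iff.2 (Or.inl ⟨by simp [pK2, pD1], by simp [pK2, pD1]⟩)

theorem k₂_t : c.k₂ * c.t * c.k₂⁻¹ = c.z * c.t := by
  rw [mul_inv_eq_iff_eq_mul, k₂, t, z, ← map_mul, ← map_mul, ← map_mul, c.phi_eq_iff]
  exact Or.inr (Pair.ext' (by simp [pK2, pT, pZ, pNeg]) (by
    simp [pK2, pT, pZ, pNeg, quarter_delta]))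

/-- The elements of `centralizer z` centralizing `d₁`. -/
theorem eq_of_comm_d₁ {g : G} (hg : g ∈ centralizer ({c.z} : Set G)) (h : g * c.d₁ = c.d₁ * g) :
    ∃ (i : ℕ) (b : M23) (hb : Matrix.GeneralLinearGroup.det b = 1),
      g = c.d₁ ^ i * c.φ ⟨(1, b), det_one' hb⟩ := by
  obtain ⟨⟨⟨a, b⟩, hab⟩, rfl⟩ := c.mem_C.1 hg
  rcases c.phi_comm_iff.1 h with ⟨h1, -⟩ | ⟨h1, -⟩
  · obtain ⟨i, rfl | rfl⟩ := comm_upper h1
    · have hb : Matrix.GeneralLinearGroup.det b = 1 := by
        rw [← mem_Pair.1 hab, map_pow, det_upper, one_pow]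
      refine ⟨i, b, hb, ?_⟩
      rw [d₁, ← map_pow, ← map_mul]
      exact congrArg c.φ (Pair.ext' (by simp [pD1]) (by simp [pD1]))
    · have hb : Matrix.GeneralLinearGroup.det (-b) = 1 := by
        have e : Matrix.GeneralLinearGroup.det (-(upper ^ (i : ℕ))) = 1 := by
          rw [← neg_one_mul, map_mul, GTwoRec.det_neg_one, map_pow, det_upper, one_pow, one_mul]
        rw [← neg_one_mul, map_mul, GTwoRec.det_neg_one, ← mem_Pair.1 hab, e, one_mul]
      refine ⟨i, -b, hb, ?_⟩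
      rw [d₁, ← map_pow, ← map_mul, c.phi_eq_iff]
      exact Or.inr (Pair.ext' (by simp [pD1, pNeg]) (by simp [pD1, pNeg]))
  · exact absurd h1 (not_anti_upper a)

theorem sl2_comm_d₁ {b : M23} (hb : Matrix.GeneralLinearGroup.det b = 1) :
    c.φ ⟨(1, b), det_one' hb⟩ * c.d₁ = c.d₁ * c.φ ⟨(1, b), det_one' hb⟩ :=
  c.phi_comm_iff.2 (Or.inl ⟨by simp [pD1], by simp [pD1]⟩)

/-- The elements of `centralizer z` centralizing a diagonal element of order three. -/
theorem eq_of_comm_diag {g : G} (hg : g ∈ centralizer ({c.z} : Set G))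
    (h : g * (c.d₁ * c.d₂) = c.d₁ * c.d₂ * g) :
    ∃ (i j e : ℕ), g = c.d₁ ^ i * c.d₂ ^ j * c.z ^ e := by
  obtain ⟨⟨⟨a, b⟩, hab⟩, rfl⟩ := c.mem_C.1 hg
  rw [d₁, d₂, ← map_mul] at h
  rcases c.phi_comm_iff.1 h with ⟨h1, h2⟩ | ⟨h1, -⟩
  · simp only [Subgroup.coe_mul, Prod.fst_mul, Prod.snd_mul, pD1, pD2, mul_one, one_mul] at h1 h2
    obtain ⟨i, ha⟩ := comm_upper h1
    obtain ⟨j, hb⟩ := comm_upper h2
    have key : ∀ e : ℕ, ∀ q : Pair, q = pD1 ^ (i : ℕ) * pD2 ^ (j : ℕ) * pZ ^ e →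
        c.φ q = c.d₁ ^ (i : ℕ) * c.d₂ ^ (j : ℕ) * c.z ^ e := fun e q hq => by
      rw [hq, map_mul, map_mul, map_pow, map_pow, map_pow]; rfl
    rcases ha with rfl | rfl <;> rcases hb with rfl | rfl
    · exact ⟨i, j, 0, key 0 _ (Pair.ext' (by simp [pD1, pD2]) (by simp [pD1, pD2]))⟩
    · refine ⟨i, j, 1, ?_⟩
      rw [d₁, d₂, z, ← map_pow, ← map_pow, ← map_pow, ← map_mul, ← map_mul, c.phi_eq_iff]
      exact Or.inr (Pair.ext' (by simp [pD1, pD2, pZ, pNeg]) (by simp [pD1, pD2, pZ, pNeg]))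
    · exact ⟨i, j, 1, key 1 _ (Pair.ext' (by simp [pD1, pD2, pZ]) (by simp [pD1, pD2, pZ]))⟩
    · refine ⟨i, j, 0, ?_⟩
      rw [d₁, d₂, z, ← map_pow, ← map_pow, ← map_pow, ← map_mul, ← map_mul, c.phi_eq_iff]
      exact Or.inr (Pair.ext' (by simp [pD1, pD2, pNeg]) (by simp [pD1, pD2, pNeg]))
  · simp only [Subgroup.coe_mul, Prod.fst_mul, pD1, pD2, mul_one] at h1
    exact absurd h1 (not_anti_upper a)

/-- No element of the centralizer of `z` moves `d₂` to a power of `d₁`. -/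
theorem conj_d₂_notMem {g : G} (hg : g ∈ centralizer ({c.z} : Set G)) :
    g * c.d₂ * g⁻¹ ∉ c.D₁ := by
  obtain ⟨p, rfl⟩ := c.mem_C.1 hg
  intro h
  obtain ⟨k, hk⟩ := mem_zpowers_iff.1 h
  rw [d₁, d₂, ← map_zpow, ← map_inv, ← map_mul, ← map_mul, c.phi_eq_iff] at hk
  have hne : upper ≠ (-1 : M23) := fun e => by
    have := congrArg (fun g : M23 => (g : Mat3) 0 1) e
    simp [upper] at this
  rcases hk with hk | hk
  · have := congrArg (fun p : Pair => (p : M23 × M23).2) hk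
    simp [pD1, pD2] at this
    exact GTwoRec.upper_ne_one (conj_eq_one_iff.1 this.symm)
  · have := congrArg (fun p : Pair => (p : M23 × M23).2) hk
    simp [pD1, pD2, pNeg] at this
    have e : upper = (-1 : M23) := by
      have h' := this.symm
      calc upper = ((p : M23 × M23).2)⁻¹ * ((p : M23 × M23).2 * upper * ((p : M23 × M23).2)⁻¹) *
            (p : M23 × M23).2 := by group
        _ = -1 := by
          rw [show (p : M23 × M23).2 * upper * ((p : M23 × M23).2)⁻¹ = -1 from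
            neg_eq_iff_eq_neg.1 h']
          simp
    exact hne e

theorem eq_one_of_cube_of_comm_t {g : G} (hg : g ∈ centralizer ({c.z} : Set G)) (h3 : g ^ 3 = 1)
    (h : g * c.t = c.t * g) : g = 1 := by
  obtain ⟨⟨⟨a, b⟩, hab⟩, rfl⟩ := c.mem_C.1 hg
  have hp : ∀ w : M23, (-w) ^ 3 = -(w ^ 3) := fun w => Odd.neg_pow (by decide) w
  have hcom := c.phi_comm_iff.1 h
  simp only [pT] at hcom
  rw [← map_pow, c.ker] at h3
  rcases h3 with h3 | h3
  · have ha : a ^ 3 = 1 := congrArg (fun p : Pair => (p : M23 × M23).1) h3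
    have hb : b ^ 3 = 1 := congrArg (fun p : Pair => (p : M23 × M23).2) h3
    have ea : a = 1 := comm_delta_cube ha (hcom.imp And.left And.left)
    have eb : b = 1 := comm_delta_cube hb (hcom.imp And.right And.right)
    exact (c.ker _).2 (Or.inl (Pair.ext' ea eb))
  · have ha : (-a) ^ 3 = 1 := by
      rw [hp, show a ^ 3 = -1 from congrArg (fun p : Pair => (p : M23 × M23).1) h3, neg_neg]
    have hb : (-b) ^ 3 = 1 := by
      rw [hp, show b ^ 3 = -1 from congrArg (fun p : Pair => (p : M23 × M23).2) h3, neg_neg]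
    have ea : -a = 1 := comm_delta_cube ha
      (hcom.imp (fun e => by simp [e.1]) (fun e => by simp [e.1]))
    have eb : -b = 1 := comm_delta_cube hb
      (hcom.imp (fun e => by simp [e.2]) (fun e => by simp [e.2]))
    exact (c.ker _).2 (Or.inr (Pair.ext' (neg_eq_iff_eq_neg.1 ea) (neg_eq_iff_eq_neg.1 eb)))

/-- An element with trivial cube of the centralizer of `z` is conjugate there into `⟨d₁, d₂⟩`. -/
theorem exists_conj_eq {g : G} (hg : g ∈ centralizer ({c.z} : Set G)) (h3 : g ^ 3 = 1) :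
    ∃ k ∈ centralizer ({c.z} : Set G), ∃ i j : Fin 3, k * g * k⁻¹ = c.d₁ ^ (i : ℕ) * c.d₂ ^ (j : ℕ) := by
  obtain ⟨p, rfl⟩ := c.mem_C.1 hg
  obtain ⟨q, hq, e⟩ : ∃ q : Pair, q ^ 3 = 1 ∧ c.φ q = c.φ p := by
    rw [← map_pow, c.ker] at h3
    rcases h3 with h3 | h3
    · exact ⟨p, h3, rfl⟩
    · refine ⟨p * pNeg, ?_, c.phi_eq_iff.2 (Or.inr rfl)⟩
      have h1 : (p : M23 × M23).1 ^ 3 = -1 := congrArg (fun p : Pair => (p : M23 × M23).1) h3
      have h2 : (p : M23 × M23).2 ^ 3 = -1 := congrArg (fun p : Pair => (p : M23 × M23).2) h3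
      have hp : ∀ w : M23, (w * -1) ^ 3 = -(w ^ 3) := fun w => by
        rw [mul_neg_one]; exact Odd.neg_pow (by decide) w
      exact Pair.ext' (show ((p : M23 × M23).1 * -1) ^ 3 = 1 by rw [hp, h1, neg_neg])
        (show ((p : M23 × M23).2 * -1) ^ 3 = 1 by rw [hp, h2, neg_neg])
  obtain ⟨k₁, hk₁, i, hi⟩ := exists_conj_pow (a := (q : M23 × M23).1)
    (congrArg (fun p : Pair => (p : M23 × M23).1) hq)
  obtain ⟨k₂, hk₂, j, hj⟩ := exists_conj_pow (a := (q : M23 × M23).2)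
    (congrArg (fun p : Pair => (p : M23 × M23).2) hq)
  refine ⟨c.φ ⟨(k₁, k₂), mem_Pair.2 (hk₁.trans hk₂.symm)⟩, c.phi_mem _, i, j, ?_⟩
  rw [← e, ← map_inv, ← map_mul, ← map_mul, d₁, d₂, ← map_pow, ← map_pow, ← map_mul]
  exact congrArg c.φ (Pair.ext' (by simpa [pD1, pD2] using hi) (by simpa [pD1, pD2] using hj))

theorem card_C : Nat.card ↥(centralizer ({c.z} : Set G)) = 576 := by
  have hker : Nat.card c.φ.ker = 2 := by
    rw [Nat.card_eq_two_iff]
    refine ⟨1, ⟨pNeg, (c.ker _).2 (Or.inr rfl)⟩, ?_, ?_⟩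
    · intro h
      have := congrArg (fun p : c.φ.ker => (((p : Pair) : M23 × M23).1 : Mat3) 0 0) h
      simp [pNeg] at this
      exact absurd this (by decide)
    · refine Set.eq_univ_of_forall fun x => ?_
      rcases (c.ker _).1 x.2 with h | h
      · exact Or.inl (Subtype.ext h)
      · exact Or.inr (Subtype.ext h)
  have hP : Nat.card Pair = 1152 := by
    have hsur : Function.Surjective ((Matrix.GeneralLinearGroup.det (n := Fin 2) (R := ZMod 3))) := by
      intro u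
      obtain rfl | rfl := GTwoRec.unit_eq_or u
      · exact ⟨1, map_one _⟩
      · exact ⟨delta, Units.ext (show (delta : Mat3).det = _ by decide)⟩
    let f : M23 × M23 →* (ZMod 3)ˣ :=
      (Matrix.GeneralLinearGroup.det.comp (MonoidHom.fst M23 M23)) *
      (Matrix.GeneralLinearGroup.det.comp (MonoidHom.snd M23 M23))⁻¹
    have hf : f.ker = Pair := by
      ext p
      rw [MonoidHom.mem_ker, mem_Pair]
      exact mul_inv_eq_one
    have hs : Function.Surjective f := fun u => by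
      obtain ⟨a, ha⟩ := hsur u
      exact ⟨(a, 1), by simp [f, ha]⟩
    have hi : f.ker.index = 2 := by
      rw [Subgroup.index_ker, MonoidHom.range_eq_top.2 hs, Subgroup.card_top, Nat.card_units,
        Nat.card_zmod]
    have := Subgroup.card_mul_index f.ker
    rw [hi, hf, Nat.card_prod, GTwoRec.card_M23] at this
    omega
  have h := Subgroup.card_mul_index c.φ.ker
  rw [Subgroup.index_ker, c.range, hker, hP] at h
  show Nat.card ↥(centralizer ({c.φ pZ} : Set G)) = 576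
  omega

end Cfg

end Cfsg.Agent.H32.GTwoTwoLocal
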