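import Cfsg.Agent.H32.GTwoTwoLocal.Common
import Cfsg.Agent.Fusion.PResidual
import Cfsg.Agent.Fusion.PComplement
import Cfsg.Agent.H2.SmithTyrer.Main

/-!
The centralizer of `⟨d₁, d₂⟩`: the two parameters agree and are not one.
-/

set_option autoImplicit false
set_option linter.unusedSectionVars false
set_option linter.style.haveILetI false

namespace Cfsg.Agent.H32.GTwoTwoLocal

open Subgroup
open Cfsg.Agent.H32.GTwoRec (M23 upper lower Mat3 conj_mem' inv_conj_mem mem_normalizer_of_conj)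

universe u

theorem delta_neg : delta * (-delta : M23) = -1 := by rw [mul_neg, delta_sq]

/-- Multiplication of the second component by its determinant. -/
def flipPair : Pair →* Pair :=
  ((MonoidHom.prod (MonoidHom.fst M23 M23)
    (MonoidHom.mk' (fun p : M23 × M23 => if Matrix.GeneralLinearGroup.det p.2 = 1 then p.2 else -p.2)
      (fun p q => by
        simp only [Prod.snd_mul, map_mul]
        rcases GTwoRec.unit_eq_or (Matrix.GeneralLinearGroup.det p.2) with hp | hp <;>
        rcases GTwoRec.unit_eq_or (Matrix.GeneralLinearGroup.det q.2) with hq | hq <;>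
        simp [hp, hq, show ((-1 : (ZMod 3)ˣ) = 1) = False from eq_false (by decide)]))).comp
    Pair.subtype).codRestrict Pair fun p => mem_Pair.2 (by
      show Matrix.GeneralLinearGroup.det (p : M23 × M23).1 =
        Matrix.GeneralLinearGroup.det (if Matrix.GeneralLinearGroup.det (p : M23 × M23).2 = 1
          then (p : M23 × M23).2 else -(p : M23 × M23).2)
      have h := mem_Pair.1 p.2
      split_ifs
      · exact h
      · rw [h, ← neg_one_mul, map_mul, GTwoRec.det_neg_one, one_mul])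

theorem flipPair_snd (p : Pair) : (flipPair p : M23 × M23).2 =
    if Matrix.GeneralLinearGroup.det (p : M23 × M23).2 = 1
      then (p : M23 × M23).2 else -(p : M23 × M23).2 := rfl

theorem flipPair_of_det_one {p : Pair} (h : Matrix.GeneralLinearGroup.det (p : M23 × M23).2 = 1) :
    flipPair p = p :=
  Pair.ext' rfl (by rw [flipPair_snd, if_pos h])

theorem flipPair_fst (p : Pair) : (flipPair p : M23 × M23).1 = (p : M23 × M23).1 := rfl

theorem flipPair_flip (p : Pair) : flipPair (flipPair p) = p := by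
  refine Pair.ext' ((flipPair_fst _).trans (flipPair_fst p)) ?_
  rw [flipPair_snd, flipPair_snd]
  by_cases h : Matrix.GeneralLinearGroup.det (p : M23 × M23).2 = 1
  · simp [h]
  · simp only [if_neg h]
    rw [← neg_one_mul, map_mul, GTwoRec.det_neg_one, one_mul, if_neg h, neg_one_mul, neg_neg]

theorem det_delta : Matrix.GeneralLinearGroup.det delta = -1 :=
  Units.ext (show (delta : Mat3).det = _ by decide)

theorem flipPair_T : flipPair pT = pT * swapPair pZ := by
  refine Pair.ext' (show delta = delta * 1 by rw [mul_one]) ?_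
  show (if Matrix.GeneralLinearGroup.det delta = 1 then delta else -delta) = delta * -1
  rw [if_neg (by rw [det_delta]; decide), mul_neg_one]

/-- A subgroup normalised by another, meeting it trivially: the product of the orders divides. -/
theorem card_mul_dvd {G : Type*} [Group G] [Finite G] {T B K : Subgroup G} (hT : T ≤ K) (hB : B ≤ K)
    (hn : B ≤ normalizer (T : Set G)) (h : T ⊓ B = ⊥) : Nat.card T * Nat.card B ∣ Nat.card K := by
  refine Dvd.dvd.trans ?_ (card_dvd_of_le (sup_le hT hB))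
  set M := T ⊔ B
  haveI : (T.subgroupOf M).Normal :=
    (normal_subgroupOf_iff_le_normalizer le_sup_left).2 (sup_le le_normalizer hn)
  let f : B →* M ⧸ T.subgroupOf M :=
    (QuotientGroup.mk' _).comp (Subgroup.inclusion (le_sup_right : B ≤ M))
  have hf : Function.Injective f := by
    refine (injective_iff_map_eq_one f).2 fun x hx => ?_
    rw [MonoidHom.comp_apply, QuotientGroup.mk'_apply, QuotientGroup.eq_one_iff] at hx
    have : (x : G) ∈ T ⊓ B := ⟨hx, x.2⟩
    rw [h, Subgroup.mem_bot] at this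
    exact Subtype.ext this
  rw [Subgroup.card_eq_card_quotient_mul_card_subgroup (T.subgroupOf M),
    Nat.card_congr (subgroupOfEquivOfLe (le_sup_left : T ≤ M)).toEquiv, mul_comm (Nat.card T)]
  refine Nat.mul_dvd_mul_right ?_ _
  rw [Nat.card_congr (MonoidHom.ofInjective hf).toEquiv]
  exact Subgroup.card_subgroup_dvd_card _

namespace Cfg

variable {G : Type u} [Group G] (c : Cfg G)

/-- The configuration with `t` replaced by its product with `z`. -/
def flip : Cfg G where
  φ := c.φ.comp flipPair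
  ker p := by
    have hn : flipPair pNeg = pNeg := flipPair_of_det_one GTwoRec.det_neg_one
    rw [MonoidHom.comp_apply, c.ker]
    constructor <;> rintro (h | h)
    · exact Or.inl (by rw [← flipPair_flip p, h, map_one])
    · exact Or.inr (by rw [← flipPair_flip p, h, hn])
    · exact Or.inl (by rw [h, map_one])
    · exact Or.inr (by rw [h, hn])
  range := by
    have h : flipPair.range = ⊤ :=
      MonoidHom.range_eq_top.2 fun p => ⟨flipPair p, flipPair_flip p⟩
    rw [MonoidHom.comp_apply, flipPair_of_det_one (p := pZ) (map_one _), MonoidHom.range_comp, h,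
      ← MonoidHom.range_eq_map, c.range]
  one v hv := by
    rw [MonoidHom.comp_apply, flipPair_of_det_one (p := pZ) (map_one _)]; exact c.one v hv
  plen := c.plen

theorem flip_z : c.flip.z = c.z := congrArg c.φ (flipPair_of_det_one (p := pZ) (map_one _))
theorem flip_t : c.flip.t = c.z * c.t := by
  show c.φ (flipPair pT) = _
  rw [flipPair_T, map_mul, c.zt_comm, z_eq]; rfl
theorem flip_d₁ : c.flip.d₁ = c.d₁ := congrArg c.φ (flipPair_of_det_one (p := pD1) (map_one _))
theorem flip_d₂ : c.flip.d₂ = c.d₂ := congrArg c.φ (flipPair_of_det_one (p := pD2) det_upper)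

theorem swap_core (x : G) : c.swap.core x = c.core x := rfl
theorem flip_core (x : G) : c.flip.core x = c.core x := rfl

variable [Finite G]

theorem swap_E : c.swap.E = c.core c.d₂ ⊓ centralizer ({c.d₁} : Set G) := rfl

theorem flip_a : c.flip.a = c.a := by
  show Nat.card ↥(c.core c.flip.d₁ ⊓ centralizer ({c.flip.t} : Set G)) = _
  rw [flip_t, flip_d₁, c.card_fixed_zt]

/-- The elements of odd order centralizing `d₁` and `d₂`. -/
noncomputable def T : Subgroup G := c.E ⊔ c.D₂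

theorem E_le : c.E ≤ centralizer ({c.d₁} : Set G) := inf_le_left.trans (c.core_le _)

theorem E_D₂_commute {x y : G} (hx : x ∈ c.E) (hy : y ∈ c.D₂) : Commute x y := by
  obtain ⟨n, rfl⟩ := mem_zpowers_iff.1 hy
  exact Commute.zpow_right (show Commute x c.d₂ from mem_centralizer_singleton_iff.1 hx.2) n

theorem E_inf_D₂ : c.E ⊓ c.D₂ = ⊥ := by
  rw [eq_bot_iff]
  intro x hx
  have h1 : x ∈ c.D₁ := by
    rw [← c.core_inf_z]
    exact ⟨hx.1.1, c.P_le (c.D₂_le_P hx.2)⟩
  rw [← c.D₁_inf_D₂]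
  exact ⟨h1, hx.2⟩

theorem card_T : Nat.card ↥c.T = 9 * c.a := by
  have hcomm : ∀ (x : c.E) (y : c.D₂), Commute (c.E.subtype x) (c.D₂.subtype y) :=
    fun x y => c.E_D₂_commute x.2 y.2
  have hr : (MonoidHom.noncommCoprod c.E.subtype c.D₂.subtype hcomm).range = c.T := by
    rw [MonoidHom.noncommCoprod_range, range_subtype, range_subtype]; rfl
  have hi : Function.Injective (MonoidHom.noncommCoprod c.E.subtype c.D₂.subtype hcomm) := by
    refine (MonoidHom.noncommCoprod_injective _ _ hcomm).2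
      ⟨subtype_injective _, subtype_injective _, ?_⟩
    rw [range_subtype, range_subtype, disjoint_iff]
    exact c.E_inf_D₂
  rw [← hr, ← Nat.card_congr (MonoidHom.ofInjective hi).toEquiv, Nat.card_prod, c.card_E,
    D₂, Nat.card_zpowers, c.orderOf_d₂]
  ring

theorem odd_card_T : Odd (Nat.card ↥c.T) := by
  rw [c.card_T]
  rcases c.a_cases with h | h | h <;> rw [h] <;> decide

theorem P_le_T : c.P ≤ c.T := sup_le (c.D₁_le_E.trans le_sup_left) le_sup_right

theorem T_le₁ : c.T ≤ centralizer ({c.d₁} : Set G) :=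
  sup_le c.E_le (zpowers_le.2 c.d₂_mem_C)

theorem T_le₂ : c.T ≤ centralizer ({c.d₂} : Set G) :=
  sup_le inf_le_right (zpowers_le.2 (mem_centralizer_singleton_iff.2 rfl))

/-- The common centralizer of `d₁` and `d₂`. -/
theorem mem_CP {g : G} (h1 : g ∈ centralizer ({c.d₁} : Set G))
    (h2 : g ∈ centralizer ({c.d₂} : Set G)) : g ∈ c.T ∨ ∃ x ∈ c.T, g = x * c.z := by
  obtain ⟨o, ho, h, hh, rfl⟩ := c.mem_C_d₁ h1
  set w := h * c.d₂ * h⁻¹ * c.d₂⁻¹ with hw
  have hwD : w ∈ c.D₁ := by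
    rw [← c.core_inf_z]
    refine Subgroup.mem_inf.2 ⟨?_, mul_mem (mul_mem (mul_mem hh.1 c.d₂_mem) (inv_mem hh.1)) (inv_mem c.d₂_mem)⟩
    have e : w = o⁻¹ * (c.d₂ * o * c.d₂⁻¹) := by
      have hg : o * h * c.d₂ = c.d₂ * (o * h) := mem_centralizer_singleton_iff.1 h2
      calc w = o⁻¹ * (o * h * c.d₂) * h⁻¹ * c.d₂⁻¹ := by rw [hw]; group
        _ = o⁻¹ * (c.d₂ * (o * h)) * h⁻¹ * c.d₂⁻¹ := by rw [hg]
        _ = _ := by group
    rw [e]
    exact mul_mem (inv_mem ho) (conj_mem' c.d₂_normalizes ho)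
  obtain ⟨d, hd, b, rfl⟩ := c.mem_CC hh
  have hcd : Commute d c.d₂ := c.D_commute hd (mem_zpowers _)
  have hw' : w = c.sl₂ (b * ⟨upper, det_upper⟩ * b⁻¹ * ⟨upper, det_upper⟩⁻¹) := by
    have hd₂ : c.d₂ = c.sl₂ ⟨upper, det_upper⟩ := rfl
    set y := c.sl₂ b * c.d₂ * (c.sl₂ b)⁻¹ with hy
    have hdy : d * y = y * d := (c.D₁_central
      (mul_mem (mul_mem (c.sl₂_mem b).2 c.d₂_mem_C) (inv_mem (c.sl₂_mem b).2)) hd).symm
    calc w = d * y * d⁻¹ * c.d₂⁻¹ := by rw [hw, hy]; group
      _ = y * c.d₂⁻¹ := by rw [hdy, mul_inv_cancel_right]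
      _ = _ := by rw [hy, hd₂]; simp only [map_mul, map_inv]
  have hw1 : w = 1 := by
    obtain ⟨n, hn⟩ := mem_zpowers_iff.1 (hw' ▸ hwD)
    set b' := b * ⟨upper, det_upper⟩ * b⁻¹ * ⟨upper, det_upper⟩⁻¹
    have : c.φ (pD1 ^ n) = c.φ ⟨(1, (b' : M23)), det_one' b'.2⟩ := by
      rw [map_zpow]; exact hn
    rw [hw', ← hn]
    show c.φ pD1 ^ n = 1
    rw [← map_zpow, c.ker]
    rcases c.phi_eq_iff.1 this with e | e
    · refine Or.inl (Pair.ext' ?_ (by simp [pD1]))
      simpa using congrArg (fun p : Pair => (p : M23 × M23).1) e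
    · exfalso
      have e1 := congrArg (fun p : Pair => (p : M23 × M23).1) e
      simp [pD1, pNeg] at e1
      have h3 : ((upper ^ n) ^ 3 : M23) = 1 := by
        rw [← zpow_natCast, ← zpow_mul, mul_comm, zpow_mul, zpow_natCast, GTwoRec.upper_cube,
          one_zpow]
      rw [e1, Odd.neg_pow (by decide), one_pow] at h3
      have := congrArg (fun g : M23 => (g : Mat3) 0 0) h3
      simp at this
      exact absurd this (by decide)
  have hhd₂ : d * c.sl₂ b ∈ centralizer ({c.d₂} : Set G) :=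
    mem_centralizer_singleton_iff.2 (mul_inv_eq_iff_eq_mul.1 (mul_inv_eq_one.1 (hw ▸ hw1)))
  have hoE : o ∈ c.E := by
    refine Subgroup.mem_inf.2 ⟨ho, ?_⟩
    have := mul_mem h2 (inv_mem hhd₂)
    rwa [mul_inv_cancel_right] at this
  have hdiag : d * c.sl₂ b ∈ centralizer ({c.d₁ * c.d₂} : Set G) :=
    mem_centralizer_singleton_iff.2 ((show Commute (d * c.sl₂ b) c.d₁ from
      mem_centralizer_singleton_iff.1 hh.2).mul_right
      (show Commute (d * c.sl₂ b) c.d₂ from mem_centralizer_singleton_iff.1 hhd₂)).eq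
  have hoT : o ∈ c.T := (le_sup_left : c.E ≤ c.T) hoE
  rcases c.mem_C_diag_z hh.1 hdiag with hp | ⟨p, hp, e⟩
  · exact Or.inl (mul_mem hoT (c.P_le_T hp))
  · exact Or.inr ⟨o * p, mul_mem hoT (c.P_le_T hp), by rw [e, mul_assoc]⟩

theorem z_conj_T {x : G} (hx : x ∈ c.T) : c.z * x * c.z ∈ c.T := by
  refine invol_conj_mem c.z_sq (mem_normalizer_of_conj ?_) hx
  intro y hy
  have hle : c.T ≤ (c.T).comap (MulAut.conj c.z).toMonoidHom := by
    refine sup_le (fun e he => ?_) (fun e he => ?_)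
    · refine (le_sup_left : c.E ≤ c.T) (Subgroup.mem_inf.2 ⟨conj_mem' c.z_normalizes_core he.1, ?_⟩)
      exact mul_mem (mul_mem (mem_centralizer_singleton_iff.2 (c.z_comm_of_mem c.d₂_mem)) he.2)
        (inv_mem (mem_centralizer_singleton_iff.2 (c.z_comm_of_mem c.d₂_mem)))
    · refine (le_sup_right : c.D₂ ≤ c.T) ?_
      show c.z * e * c.z⁻¹ ∈ c.D₂
      rw [c.z_comm_of_mem (c.P_le (c.D₂_le_P he)), mul_inv_cancel_right]
      exact he
  exact hle hy

/-- An element of odd order centralizing `d₁` and `d₂` lies in `T`. -/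
theorem mem_T {g : G} (h1 : g ∈ centralizer ({c.d₁} : Set G))
    (h2 : g ∈ centralizer ({c.d₂} : Set G)) (ho : Odd (orderOf g)) : g ∈ c.T := by
  have hsq : g * g ∈ c.T := by
    rcases c.mem_CP h1 h2 with h | ⟨x, hx, rfl⟩
    · exact mul_mem h h
    · rw [show x * c.z * (x * c.z) = x * (c.z * x * c.z) by group]
      exact mul_mem hx (c.z_conj_T hx)
  obtain ⟨m, hm⟩ := ho
  have : g = (g * g) ^ (m + 1) := by
    rw [← pow_two, ← pow_mul, show 2 * (m + 1) = orderOf g + 1 by omega, pow_succ,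
      pow_orderOf_eq_one, one_mul]
  rw [this]
  exact pow_mem hsq _

theorem swap_T : c.swap.T = c.T := by
  refine le_antisymm (fun x hx => ?_) (fun x hx => ?_)
  · exact c.mem_T (c.swap.T_le₂ hx) (c.swap.T_le₁ hx) (odd_orderOf_of_mem c.swap.odd_card_T hx)
  · exact c.swap.mem_T (c.T_le₂ hx) (c.T_le₁ hx) (odd_orderOf_of_mem c.odd_card_T hx)

theorem a_swap : c.swap.a = c.a := by
  have h := c.swap.card_T
  rw [c.swap_T, c.card_T] at h
  omega

theorem twist_a : c.twist.a = c.a := by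
  show Nat.card ↥(c.core c.twist.d₁ ⊓ centralizer ({c.twist.t} : Set G)) = _
  rw [twist_t, twist_d₁]; rfl

/-- A conjugate of `d₁` inside `P` lies in `D₁`. -/
theorem conj_d₁_mem_P {g : G} (h : g * c.d₁ * g⁻¹ ∈ c.P) : g * c.d₁ * g⁻¹ ∈ c.D₁ := by
  have hsq : ∀ d : G, d ^ 3 = 1 → d ^ 2 = d⁻¹ := fun d h =>
    eq_inv_of_mul_eq_one_left (by rw [← pow_succ]; exact h)
  have hred : ∀ (d : G) (k : ℕ), d ^ 3 = 1 → d ^ k = 1 ∨ d ^ k = d ∨ d ^ k = d⁻¹ := fun d k hd => by
    rw [← Nat.div_add_mod k 3, pow_add, pow_mul, hd, one_pow, one_mul]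
    have := Nat.mod_lt k (by norm_num : 3 > 0)
    interval_cases (k % 3)
    · exact Or.inl (pow_zero d)
    · exact Or.inr (Or.inl (pow_one d))
    · exact Or.inr (Or.inr (hsq d hd))
  have hcm : Commute c.d₁ c.d₂ := c.d_comm
  have hdiag : ∀ (c' : Cfg G), c'.d₁ = c.d₁ → c'.t = c.t →
      g * c.d₁ * g⁻¹ ≠ c'.d₁ * c'.d₂ ∧ g * c.d₁ * g⁻¹ ≠ (c'.d₁ * c'.d₂)⁻¹ := by
    intro c' hd ht
    refine ⟨fun e => c'.not_conj_diag_d₁ g (by rw [hd] at e ⊢; exact e), fun e => ?_⟩
    refine c'.not_conj_diag_d₁ (c.t * g) ?_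
    have h2 : c'.t * (c'.d₁ * c'.d₂)⁻¹ * c'.t = c'.d₁ * c'.d₂ := by
      rw [← c'.t_conj_P c'.diag_mem, invol_conj_invol c'.t_sq]
    rw [hd] at e h2 ⊢
    rw [← e, ht] at h2
    rw [← h2, mul_inv_rev, inv_eq_of_mul_eq_one_right c.t_sq]
    group
  obtain ⟨i, j, e⟩ := c.mem_P.1 h
  rcases hred c.d₁ i c.d₁_cube with hi | hi | hi <;> rcases hred c.d₂ j c.d₂_cube with hj | hj | hj <;>
    rw [hi, hj] at e <;> try simp only [mul_one, one_mul] at e
  · rw [e]; exact one_mem _
  · exfalso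
    refine c.swap.not_conj_d₂_D₁ g ?_
    rw [swap_d₂, swap_D₁, e]; exact mem_zpowers _
  · exfalso
    refine c.swap.not_conj_d₂_D₁ g ?_
    rw [swap_d₂, swap_D₁, e]; exact inv_mem (mem_zpowers _)
  · rw [e]; exact mem_zpowers _
  · exact absurd e (hdiag c rfl rfl).1
  · exact absurd (e.trans (by rw [twist_d₁, twist_d₂])) (hdiag c.twist c.twist_d₁ c.twist_t).1
  · rw [e]; exact inv_mem (mem_zpowers _)
  · refine absurd (e.trans ?_) (hdiag c.twist c.twist_d₁ c.twist_t).2
    rw [twist_d₁, twist_d₂, mul_inv_rev, inv_inv, (hcm.inv_left).symm.eq]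
  · refine absurd (e.trans ?_) (hdiag c rfl rfl).2
    rw [mul_inv_rev, (hcm.inv_inv).symm.eq]

theorem mem_normalizer_D₁_of_P {g : G} (hg : g ∈ normalizer (c.P : Set G)) :
    g ∈ normalizer (c.D₁ : Set G) := by
  refine mem_normalizer_of_conj fun x hx => ?_
  obtain ⟨n, rfl⟩ := mem_zpowers_iff.1 hx
  rw [← conj_zpow]
  exact zpow_mem (c.conj_d₁_mem_P (conj_mem' hg (c.D₁_le_P (mem_zpowers _)))) n

theorem swap_P : c.swap.P = c.P := sup_comm _ _

theorem no_sign_change (ha : c.a = 1) {g : G} (h1 : g * c.d₁ * g⁻¹ = c.d₁) :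
    g * c.d₂ * g⁻¹ ≠ c.d₂⁻¹ := by
  intro h2
  have hg : g ∈ centralizer ({c.d₁} : Set G) :=
    mem_centralizer_singleton_iff.2 (mul_inv_eq_iff_eq_mul.1 h1)
  have hO : c.core c.d₁ = c.D₁ := (GTwoRec.eq_of_le_of_card c.D₁_le_core
    (by rw [c.card_D₁, c.card_core, ha])).symm
  obtain ⟨o, ho, h, hh, rfl⟩ := c.mem_C_d₁ hg
  rw [hO] at ho
  obtain ⟨d, hd, ⟨b, hb⟩, rfl⟩ := c.mem_CC hh
  have hod : Commute (o * d) c.d₂ := c.D_commute (mul_mem ho hd) (mem_zpowers _)
  set y := c.sl₂ ⟨b, hb⟩ * c.d₂ * (c.sl₂ ⟨b, hb⟩)⁻¹ with hy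
  have hody : (o * d) * y = y * (o * d) := (c.D₁_central
    (mul_mem (mul_mem (c.sl₂_mem _).2 c.d₂_mem_C) (inv_mem (c.sl₂_mem _).2)) (mul_mem ho hd)).symm
  have hy2 : y = c.d₂⁻¹ := by
    rw [← h2]
    calc y = o * d * y * (o * d)⁻¹ := by rw [hody, mul_inv_cancel_right]
      _ = _ := by rw [hy]; group
  rw [hy, show c.d₂ = c.sl₂ ⟨upper, det_upper⟩ from rfl, ← map_inv, ← map_inv, ← map_mul,
    ← map_mul] at hy2
  have hM : b * upper * b⁻¹ = upper⁻¹ := congrArg Subtype.val (c.sl₂_injective hy2)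
  have key : ∀ m : Mat3, m.det ≠ 0 → m.det = 1 → m * !![1, 1; 0, 1] ≠ !![1, 2; 0, 1] * m := by decide
  exact forall_M23 (P := fun m => m.det = 1 → m * !![1, 1; 0, 1] ≠ !![1, 2; 0, 1] * m) key b
    ((det_eq_one_iff b).1 hb) (congrArg Units.val (mul_inv_eq_iff_eq_mul.1 hM))

theorem a_ne_one : c.a ≠ 1 := by
  intro ha
  haveI : Fact (Nat.Prime 3) := ⟨Nat.prime_three⟩
  have hT : c.T = c.P := (GTwoRec.eq_of_le_of_card c.P_le_T (by rw [c.card_P, c.card_T, ha])).symm
  have hswap : c.swap.a = 1 := by rw [c.a_swap, ha]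
  obtain ⟨S, hS⟩ := c.P_isPGroup.exists_le_sylow
  have hSP : (S : Subgroup G) = c.P := by
    by_contra hne
    haveI := S.isPGroup'.isNilpotent
    obtain ⟨x, hxn, hxP⟩ := SetLike.exists_of_lt
      ((Group.normalizerCondition_of_isNilpotent (G := (S : Subgroup G)))
        (c.P.subgroupOf S) (lt_of_le_of_ne le_top fun e => hne
          (le_antisymm (subgroupOf_eq_top.1 e) hS)))
    have hn : (x : G) ∈ normalizer (c.P : Set G) := mem_normalizer_of_conj fun w hw =>
      (mem_normalizer_iff.1 hxn ⟨w, hS hw⟩).1 hw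
    obtain ⟨k, hk⟩ := S.isPGroup' x
    have hk' : (x : G) ^ (3 ^ k) = 1 := congrArg Subtype.val hk
    have h1 := GTwoRec.centralizes_of_card_three c.card_D₁ (c.mem_normalizer_D₁_of_P hn) hk'
    have h2 := GTwoRec.centralizes_of_card_three c.swap.card_D₁
      (c.swap.mem_normalizer_D₁_of_P (by rw [swap_P]; exact hn)) hk'
    refine hxP ?_
    show (x : G) ∈ c.P
    rw [← hT]
    refine c.mem_T (mem_centralizer_singleton_iff.2 (mul_inv_eq_iff_eq_mul.1 (h1 _ (mem_zpowers _))))
      (mem_centralizer_singleton_iff.2 (mul_inv_eq_iff_eq_mul.1 (h2 _ (mem_zpowers _)))) ?_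
    have hd : orderOf (x : G) ∣ 3 ^ k := orderOf_dvd_of_pow_eq_one hk'
    exact (Odd.pow (by decide : Odd 3)).of_dvd_nat hd
  have hPn : ∀ x ∈ c.P, c.t * x * c.t⁻¹ = x⁻¹ := fun x hx => by
    rw [inv_eq_of_mul_eq_one_right c.t_sq]; exact c.t_conj_P hx
  have htN : c.t ∈ normalizer (c.P : Set G) := mem_normalizer_of_conj fun x hx => by
    rw [hPn x hx]; exact inv_mem hx
  have hcent : ∀ g : G, g * c.d₁ = c.d₁ * g → g * c.d₂ = c.d₂ * g →
      g ∈ centralizer ((c.P : Subgroup G) : Set G) := fun g h1 h2 => mem_centralizer_iff.2 fun x hx => by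
    obtain ⟨i, j, rfl⟩ := c.mem_P.1 hx
    exact (((show Commute g c.d₁ from h1).pow_right i).mul_right
      ((show Commute g c.d₂ from h2).pow_right j)).eq.symm
  have hsign : ∀ g ∈ normalizer (c.P : Set G),
      g ∈ centralizer ((c.P : Subgroup G) : Set G) ∨
        g * c.t ∈ centralizer ((c.P : Subgroup G) : Set G) := by
    intro g hg
    have hcases : ∀ c' : Cfg G, c'.P = c.P → g * c'.d₁ * g⁻¹ = c'.d₁ ∨ g * c'.d₁ * g⁻¹ = c'.d₁⁻¹ := by
      intro c' hP
      have h := c'.conj_d₁_mem_P (g := g)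
        (hP ▸ conj_mem' hg (hP ▸ c'.D₁_le_P (mem_zpowers _)))
      obtain ⟨k, hk⟩ := mem_powers_iff_mem_zpowers.2 h
      change c'.d₁ ^ k = _ at hk
      have hd : c'.d₁ ^ k = c'.d₁ ^ (k % 3) := by
        conv_lhs => rw [← Nat.div_add_mod k 3, pow_add, pow_mul, c'.d₁_cube, one_pow, one_mul]
      rw [hd] at hk
      have := Nat.mod_lt k (by norm_num : 3 > 0)
      interval_cases (k % 3)
      · rw [pow_zero] at hk
        exact absurd (conj_eq_one_iff.1 hk.symm) c'.d₁_ne_one
      · exact Or.inl (by rw [← hk, pow_one])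
      · exact Or.inr (by
          rw [← hk]; exact eq_inv_of_mul_eq_one_left (by rw [← pow_succ]; exact c'.d₁_cube))
    have e2 : c.swap.d₁ = c.d₂ := rfl
    have hc2 := hcases c.swap c.swap_P
    rw [e2] at hc2
    have hgt : ∀ d : G, c.t * d * c.t = d⁻¹ → g * c.t * d * (g * c.t)⁻¹ = (g * d * g⁻¹)⁻¹ := fun d hd => by
      rw [mul_inv_rev, inv_eq_of_mul_eq_one_right c.t_sq,
        show g * c.t * d * (c.t * g⁻¹) = g * (c.t * d * c.t) * g⁻¹ by group, hd]
      group
    rcases hcases c rfl with h1 | h1 <;> rcases hc2 with h2 | h2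
    · exact Or.inl (hcent g (mul_inv_eq_iff_eq_mul.1 h1) (mul_inv_eq_iff_eq_mul.1 h2))
    · exact absurd h2 (c.no_sign_change ha h1)
    · exact absurd h1 (c.swap.no_sign_change hswap h2)
    · refine Or.inr (hcent _ (mul_inv_eq_iff_eq_mul.1 ?_) (mul_inv_eq_iff_eq_mul.1 ?_))
      · rw [hgt _ c.t_d₁, h1, inv_inv]
      · rw [hgt _ c.t_d₂, h2, inv_inv]
  have hab : IsMulCommutative (S : Subgroup G) :=
    ⟨⟨fun x y => Subtype.ext (c.P_comm (hSP ▸ x.2) (hSP ▸ y.2))⟩⟩
  have hnc : ¬ IsCyclic (S : Subgroup G) := fun hcyc => by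
    haveI := hcyc
    have h9 : Nat.card (S : Subgroup G) = 9 := by rw [hSP, c.card_P]
    obtain ⟨x, hx⟩ := IsCyclic.exists_generator (α := (S : Subgroup G))
    have h1 : orderOf x = 9 := by rw [orderOf_eq_card_of_forall_mem_zpowers hx, h9]
    have h3 : orderOf x ∣ 3 := orderOf_dvd_of_pow_eq_one
      (Subtype.ext (c.cube_of_mem_P (hSP ▸ x.2)))
    rw [h1] at h3
    omega
  have hidx : ((centralizer ((S : Subgroup G) : Set G)).subgroupOf
      (normalizer ((S : Subgroup G) : Set G))).index = 2 := by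
    rw [hSP, Subgroup.index_eq_two_iff']
    refine ⟨⟨c.t, htN⟩, fun ⟨b, hb⟩ => ?_⟩
    show Xor (c.t * b ∈ centralizer (c.P : Set G)) (b ∈ centralizer (c.P : Set G))
    have hconj : c.t * b * c.t ∈ normalizer (c.P : Set G) := mul_mem (mul_mem htN hb) htN
    have hnot : ∀ g, g ∈ centralizer (c.P : Set G) → c.t * g ∉ centralizer (c.P : Set G) := by
      intro g hg h
      have h' := mul_mem h (inv_mem hg)
      rw [mul_inv_cancel_right] at h'
      have e := mem_centralizer_iff.1 h' c.d₁ (c.D₁_le_P (mem_zpowers _))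
      have e' := c.t_d₁
      rw [← e, mul_assoc, c.t_sq, mul_one] at e'
      exact c.d₁_ne_one (eq_of_sq_eq (K := c.D₁) (by rw [c.card_D₁]; decide) (mem_zpowers _)
        (one_mem _) (by rw [mul_one]; calc c.d₁ * c.d₁ = c.d₁ * c.d₁⁻¹ := by rw [← e']
                                     _ = 1 := mul_inv_cancel _))
    rcases hsign b hb with h | h
    · exact Or.inr ⟨h, hnot b h⟩
    · refine Or.inl ⟨?_, fun h' => ?_⟩
      · rcases hsign _ hconj with h'' | h''
        · exfalso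
          have hcc : b * c.t ∈ centralizer (c.P : Set G) := h
          have h2 : c.t * (b * c.t) ∈ centralizer (c.P : Set G) := by
            rw [← mul_assoc]; exact h''
          exact hnot _ hcc h2
        · rwa [mul_assoc, c.t_sq, mul_one] at h''
      · have h2 := mul_mem (inv_mem h') h
        rw [inv_mul_cancel_left] at h2
        exact hnot 1 (one_mem _) (by rwa [mul_one])
  have htop : Cfsg.pResidual 3 G = ⊤ := by
    rw [eq_top_iff, ← Fusion.sylow_sup_pResidual S, hSP]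
    refine sup_le ?_ le_rfl
    have ht : c.t ∈ Cfsg.pResidual 3 G := Fusion.mem_pResidual (by rw [c.orderOf_t]; decide)
    intro x hx
    haveI : (Cfsg.pResidual 3 G).Normal := Subgroup.normal_of_characteristic _
    have hm := mul_mem ht (Subgroup.Normal.conj_mem inferInstance c.t ht x)
    have e : x = c.t * (x * c.t * x⁻¹) := by
      rw [show c.t * (x * c.t * x⁻¹) = c.t * x * c.t * x⁻¹ by group, c.t_conj_P hx,
        ← mul_inv_rev, eq_inv_iff_mul_eq_one]
      have := c.cube_of_mem_P hx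
      rwa [pow_succ, pow_two, mul_assoc] at this
    rw [e]
    exact hm
  rcases H2.SmithTyrer.pResidual_ne_top_or_pLength S (by norm_num) hab hnc hidx with h | h
  · exact h htop
  · exact c.plen h

end Cfg

end Cfsg.Agent.H32.GTwoTwoLocal
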