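import Cfsg.Agent.H32.GTwoTwoLocal.CentOne
import Mathlib.GroupTheory.Transfer

/-!
The two kinds of elements of order three centralizing an involution.
-/

set_option autoImplicit false
set_option linter.unusedSectionVars false
set_option linter.style.haveILetI false

namespace Cfsg.Agent.H32.GTwoTwoLocal

open Subgroup
open Cfsg.Agent.H32.GTwoRec (M23 upper lower Mat3 conj_mem' inv_conj_mem mem_normalizer_of_conj)

universe u

/-- Conjugation of the second component by the reflection. -/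
def twistPair : Pair →* Pair :=
  (((MonoidHom.id M23).prodMap (MulAut.conj delta).toMonoidHom).comp Pair.subtype).codRestrict Pair
    fun p => mem_Pair.2 <| by
      show Matrix.GeneralLinearGroup.det (p : M23 × M23).1 =
        Matrix.GeneralLinearGroup.det (delta * (p : M23 × M23).2 * delta⁻¹)
      rw [map_mul, map_mul, map_inv, mul_inv_cancel_comm]
      exact mem_Pair.1 p.2

theorem twistPair_twist (p : Pair) : twistPair (twistPair p) = p := by
  refine Pair.ext' rfl ?_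
  show delta * (delta * (p : M23 × M23).2 * delta⁻¹) * delta⁻¹ = (p : M23 × M23).2
  rw [inv_eq_of_mul_eq_one_right delta_sq]
  calc delta * (delta * (p : M23 × M23).2 * delta) * delta
      = delta * delta * (p : M23 × M23).2 * (delta * delta) := by group
    _ = _ := by rw [delta_sq]; group

theorem twistPair_neg : twistPair pNeg = pNeg := by
  refine Pair.ext' rfl ?_
  show delta * (-1) * delta⁻¹ = (-1 : M23)
  simp

theorem twistPair_Z : twistPair pZ = pZ := by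
  refine Pair.ext' rfl ?_
  show delta * 1 * delta⁻¹ = (1 : M23)
  simp

theorem twistPair_T : twistPair pT = pT := by
  refine Pair.ext' rfl ?_
  show delta * delta * delta⁻¹ = delta
  simp

theorem twistPair_D₁ : twistPair pD1 = pD1 := by
  refine Pair.ext' rfl ?_
  show delta * 1 * delta⁻¹ = (1 : M23)
  simp

theorem twistPair_D₂ : twistPair pD2 = pD2⁻¹ := by
  refine Pair.ext' (show (1 : M23) = (1 : M23)⁻¹ by simp) ?_
  show delta * upper * delta⁻¹ = upper⁻¹
  rw [mul_inv_eq_iff_eq_mul, delta_upper]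

namespace Cfg

variable {G : Type u} [Group G] (c : Cfg G)

/-- The configuration with the second element of order three inverted. -/
def twist : Cfg G where
  φ := c.φ.comp twistPair
  ker p := by
    rw [MonoidHom.comp_apply, c.ker]
    constructor <;> rintro (h | h)
    · exact Or.inl (by rw [← twistPair_twist p, h, map_one])
    · exact Or.inr (by rw [← twistPair_twist p, h, twistPair_neg])
    · exact Or.inl (by rw [h, map_one])
    · exact Or.inr (by rw [h, twistPair_neg])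
  range := by
    have h : twistPair.range = ⊤ :=
      MonoidHom.range_eq_top.2 fun p => ⟨twistPair p, twistPair_twist p⟩
    rw [MonoidHom.comp_apply, twistPair_Z, MonoidHom.range_comp, h, ← MonoidHom.range_eq_map, c.range]
  one v hv := by rw [MonoidHom.comp_apply, twistPair_Z]; exact c.one v hv
  plen := c.plen

theorem twist_z : c.twist.z = c.z := congrArg c.φ twistPair_Z
theorem twist_t : c.twist.t = c.t := congrArg c.φ twistPair_T
theorem twist_d₁ : c.twist.d₁ = c.d₁ := congrArg c.φ twistPair_D₁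
theorem twist_d₂ : c.twist.d₂ = c.d₂⁻¹ := by
  show c.φ (twistPair pD2) = _
  rw [twistPair_D₂, map_inv]; rfl

/-- The group `⟨d₁, d₂⟩`. -/
def P : Subgroup G := c.D₁ ⊔ c.D₂

variable [Finite G]

theorem D₁_le_P : c.D₁ ≤ c.P := le_sup_left
theorem D₂_le_P : c.D₂ ≤ c.P := le_sup_right

theorem D₁_inf_D₂ : c.D₁ ⊓ c.D₂ = ⊥ := by
  rw [eq_bot_iff]
  intro x hx
  by_contra hne
  rw [Subgroup.mem_bot] at hne
  have h : c.D₁ = zpowers x := (GTwoRec.eq_of_le_of_card (zpowers_le.2 hx.1) (by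
    rw [c.card_D₁, Nat.card_zpowers]
    exact orderOf_eq_prime (by
      obtain ⟨n, rfl⟩ := mem_zpowers_iff.1 hx.1
      rw [← zpow_natCast, ← zpow_mul, mul_comm, zpow_mul, zpow_natCast, c.d₁_cube, one_zpow]) hne)).symm
  have h2 : c.D₂ = zpowers x := (GTwoRec.eq_of_le_of_card (zpowers_le.2 hx.2) (by
    rw [D₂, Nat.card_zpowers c.d₂, c.orderOf_d₂, Nat.card_zpowers]
    exact orderOf_eq_prime (by
      obtain ⟨n, rfl⟩ := mem_zpowers_iff.1 hx.1
      rw [← zpow_natCast, ← zpow_mul, mul_comm, zpow_mul, zpow_natCast, c.d₁_cube, one_zpow]) hne)).symm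
  refine c.conj_d₂_notMem (one_mem _) ?_
  rw [one_mul, inv_one, mul_one, h, ← h2]
  exact mem_zpowers _

theorem D_commute {x y : G} (hx : x ∈ c.D₁) (hy : y ∈ c.D₂) : Commute x y := by
  obtain ⟨n, rfl⟩ := mem_zpowers_iff.1 hx
  obtain ⟨m, rfl⟩ := mem_zpowers_iff.1 hy
  exact Commute.zpow_zpow c.d_comm n m

theorem mem_P {x : G} : x ∈ c.P ↔ ∃ i j : ℕ, x = c.d₁ ^ i * c.d₂ ^ j := by
  constructor
  · intro hx
    have hcomm : ∀ (x : c.D₁) (y : c.D₂), Commute (c.D₁.subtype x) (c.D₂.subtype y) :=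
      fun x y => c.D_commute x.2 y.2
    have hr : (MonoidHom.noncommCoprod c.D₁.subtype c.D₂.subtype hcomm).range = c.P := by
      rw [MonoidHom.noncommCoprod_range, range_subtype, range_subtype]; rfl
    rw [← hr] at hx
    obtain ⟨⟨⟨a, ha⟩, ⟨b, hb⟩⟩, rfl⟩ := hx
    obtain ⟨i, rfl⟩ := mem_powers_iff_mem_zpowers.2 ha
    obtain ⟨j, rfl⟩ := mem_powers_iff_mem_zpowers.2 hb
    exact ⟨i, j, rfl⟩
  · rintro ⟨i, j, rfl⟩
    exact mul_mem (c.D₁_le_P (pow_mem (mem_zpowers _) i)) (c.D₂_le_P (pow_mem (mem_zpowers _) j))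

theorem P_le : c.P ≤ centralizer ({c.z} : Set G) :=
  sup_le (zpowers_le.2 c.d₁_mem) (zpowers_le.2 c.d₂_mem)

theorem card_P : Nat.card ↥c.P = 9 := by
  have hcomm : ∀ (x : c.D₁) (y : c.D₂), Commute (c.D₁.subtype x) (c.D₂.subtype y) :=
    fun x y => c.D_commute x.2 y.2
  have hr : (MonoidHom.noncommCoprod c.D₁.subtype c.D₂.subtype hcomm).range = c.P := by
    rw [MonoidHom.noncommCoprod_range, range_subtype, range_subtype]; rfl
  have hi : Function.Injective (MonoidHom.noncommCoprod c.D₁.subtype c.D₂.subtype hcomm) := by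
    refine (MonoidHom.noncommCoprod_injective _ _ hcomm).2 ⟨subtype_injective _, subtype_injective _, ?_⟩
    rw [range_subtype, range_subtype, disjoint_iff]
    exact c.D₁_inf_D₂
  rw [← hr, ← Nat.card_congr (MonoidHom.ofInjective hi).toEquiv, Nat.card_prod, c.card_D₁,
    D₂, Nat.card_zpowers, c.orderOf_d₂]

theorem P_isPGroup : IsPGroup 3 ↥c.P := IsPGroup.of_card (n := 2) (by rw [c.card_P]; rfl)

theorem diag_mem : c.d₁ * c.d₂ ∈ c.P :=
  mul_mem (c.D₁_le_P (mem_zpowers _)) (c.D₂_le_P (mem_zpowers _))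

theorem P_comm {x y : G} (hx : x ∈ c.P) (hy : y ∈ c.P) : x * y = y * x := by
  obtain ⟨i, j, rfl⟩ := c.mem_P.1 hx
  obtain ⟨k, l, rfl⟩ := c.mem_P.1 hy
  have h : Commute c.d₁ c.d₂ := c.d_comm
  exact (((Commute.refl c.d₁).pow_pow i k).mul_right (h.pow_pow i l)).mul_left
    ((h.symm.pow_pow j k).mul_right ((Commute.refl c.d₂).pow_pow j l))

/-- The centralizer of the diagonal element inside the centralizer of `z`. -/
theorem mem_C_diag_z {g : G} (hg : g ∈ centralizer ({c.z} : Set G))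
    (hd : g ∈ centralizer ({c.d₁ * c.d₂} : Set G)) : g ∈ c.P ∨ ∃ p ∈ c.P, g = p * c.z := by
  obtain ⟨i, j, e, rfl⟩ := c.eq_of_comm_diag hg (mem_centralizer_singleton_iff.1 hd)
  have hp : c.d₁ ^ i * c.d₂ ^ j ∈ c.P := c.mem_P.2 ⟨i, j, rfl⟩
  obtain ⟨k, rfl | rfl⟩ : ∃ k, e = 2 * k ∨ e = 2 * k + 1 := ⟨e / 2, by omega⟩
  · left; rw [pow_mul, pow_two, c.z_sq, one_pow, mul_one]; exact hp
  · right; exact ⟨_, hp, by rw [pow_succ, pow_mul, pow_two, c.z_sq, one_pow, one_mul]⟩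

theorem z_mem_C_diag : c.z ∈ centralizer ({c.d₁ * c.d₂} : Set G) :=
  mem_centralizer_singleton_iff.2 (c.z_comm_of_mem (c.P_le c.diag_mem))

theorem P_le_C_diag : c.P ≤ centralizer ({c.d₁ * c.d₂} : Set G) := fun _ hx =>
  mem_centralizer_singleton_iff.2 (c.P_comm hx c.diag_mem)

/-- A 2-subgroup of the centralizer of the diagonal element has order at most two. -/
theorem card_two_group_C_diag {T : Subgroup G} (hT : IsPGroup 2 T)
    (hle : T ≤ centralizer ({c.d₁ * c.d₂} : Set G)) (hz : c.z ∈ T) : T = zpowers c.z := by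
  haveI : Fact (Nat.Prime 2) := ⟨Nat.prime_two⟩
  have key : ∀ x ∈ T, x ∈ centralizer ({c.z} : Set G) → x ∈ zpowers c.z := fun x hx hxz => by
    have hodd : ∀ p ∈ c.P, p ∈ T → p = 1 := fun p hp hpT => by
      have h1 : orderOf p ∣ 9 := c.card_P ▸ Subgroup.orderOf_dvd_natCard _ hp
      obtain ⟨k, hk⟩ := hT ⟨p, hpT⟩
      have h2 : orderOf p ∣ 2 ^ k := orderOf_dvd_of_pow_eq_one (congrArg Subtype.val hk)
      exact orderOf_eq_one_iff.1
        (((by decide : Nat.Coprime 2 9).pow_left k).symm.coprime_dvd_left h1 |>.eq_one_of_dvd h2)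
    rcases c.mem_C_diag_z hxz (hle hx) with h | ⟨p, hp, rfl⟩
    · rw [hodd x h hx]; exact one_mem _
    · have : p ∈ T := by
        have := mul_mem hx hz
        rwa [mul_assoc, c.z_sq, mul_one] at this
      rw [hodd p hp this, one_mul]; exact mem_zpowers _
  refine le_antisymm ?_ (zpowers_le.2 hz)
  by_contra hne
  have hlt : (zpowers c.z).subgroupOf T < ⊤ := lt_of_le_of_ne le_top fun e =>
    hne (subgroupOf_eq_top.1 e)
  haveI := hT.isNilpotent
  obtain ⟨x, hxn, hxz⟩ := SetLike.exists_of_lt (Group.normalizerCondition_of_isNilpotent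
    (G := T) _ hlt)
  refine hxz (key x x.2 (mem_centralizer_singleton_iff.2 ?_))
  have h := (mem_normalizer_iff.1 hxn ⟨c.z, hz⟩).1 (mem_zpowers _)
  obtain ⟨n, hn⟩ := mem_zpowers_iff.1 h
  have hn' : c.z ^ n = (x : G) * c.z * (x : G)⁻¹ := hn
  obtain ⟨k, rfl | rfl⟩ := n.even_or_odd'
  · exfalso
    rw [zpow_mul, zpow_ofNat, pow_two, c.z_sq, one_zpow] at hn'
    exact c.z_ne_one (conj_eq_one_iff.1 hn'.symm)
  · rw [zpow_add, zpow_mul, zpow_ofNat, pow_two, c.z_sq, one_zpow, one_mul, zpow_one] at hn'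
    exact (mul_inv_eq_iff_eq_mul.1 hn'.symm)

/-- The centralizer of the diagonal element is the core extended by `z`. -/
theorem mem_C_diag {g : G} (hg : g ∈ centralizer ({c.d₁ * c.d₂} : Set G)) :
    g ∈ c.core (c.d₁ * c.d₂) ∨ ∃ o ∈ c.core (c.d₁ * c.d₂), g = o * c.z := by
  haveI : Fact (Nat.Prime 2) := ⟨Nat.prime_two⟩
  set C := centralizer ({c.d₁ * c.d₂} : Set G)
  have hz : zpowers c.z ≤ C := zpowers_le.2 c.z_mem_C_diag
  have hp : IsPGroup 2 ((zpowers c.z).subgroupOf C) := IsPGroup.of_card (n := 1) (by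
    rw [Nat.card_congr (subgroupOfEquivOfLe hz).toEquiv, Nat.card_zpowers, c.orderOf_z]; rfl)
  obtain ⟨S, hS⟩ := hp.exists_le_sylow
  have hSz : ∀ x ∈ (S : Subgroup C), (x : G) ∈ zpowers c.z := fun x hx => by
    have h := c.card_two_group_C_diag (T := (S : Subgroup C).map C.subtype)
      (S.isPGroup'.map C.subtype) (map_subtype_le _)
      ⟨⟨c.z, c.z_mem_C_diag⟩, hS (mem_zpowers c.z), rfl⟩
    rw [← h]; exact ⟨x, hx, rfl⟩
  have hz' : ∀ x ∈ (S : Subgroup C), x = 1 ∨ (x : G) = c.z := fun x hx => by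
    obtain ⟨n, hn⟩ := mem_zpowers_iff.1 (hSz x hx)
    obtain ⟨k, rfl | rfl⟩ := n.even_or_odd'
    · rw [zpow_mul, zpow_ofNat, pow_two, c.z_sq, one_zpow] at hn
      exact Or.inl (Subtype.ext hn.symm)
    · rw [zpow_add, zpow_mul, zpow_ofNat, pow_two, c.z_sq, one_zpow, one_mul, zpow_one] at hn
      exact Or.inr hn.symm
  have hN : normalizer ((S : Subgroup C) : Set C) ≤ centralizer ((S : Subgroup C) : Set C) := by
    intro n hn y hy
    rcases hz' y hy with rfl | e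
    · simp
    · have h := (mem_normalizer_iff.1 hn y).1 hy
      rcases hz' _ h with h1 | h1
      · rw [conj_eq_one_iff] at h1
        subst h1; simp
      · have h2 : n * y * n⁻¹ = y := Subtype.ext (h1.trans e.symm)
        exact (mul_inv_eq_iff_eq_mul.1 h2).symm
  have hcomp := MonoidHom.ker_transferSylow_isComplement' S hN
  set N := (MonoidHom.transferSylow S hN).ker
  have hodd : Odd (Nat.card N) := by
    have h1 := hcomp.card_mul_card
    have h2 : ¬ 2 ∣ (S : Subgroup C).index := S.not_dvd_index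
    rw [← Subgroup.index_mul_card (S : Subgroup C)] at h1
    have : Nat.card N = (S : Subgroup C).index := Nat.eq_of_mul_eq_mul_right Nat.card_pos h1
    rw [this]
    exact Nat.odd_iff.2 (Nat.two_dvd_ne_zero.1 h2)
  have hle : ∀ x ∈ N, (x : G) ∈ c.core (c.d₁ * c.d₂) := fun x hx =>
    ⟨x, Cores.le_oddCore hodd hx, rfl⟩
  obtain ⟨⟨n, s⟩, e⟩ := hcomp.2 ⟨g, hg⟩
  have e' : (n : C).1 * (s : C).1 = g := congrArg Subtype.val e
  rcases hz' s s.2 with h | h
  · refine Or.inl ?_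
    rw [← e', h, OneMemClass.coe_one, mul_one]
    exact hle n n.2
  · exact Or.inr ⟨_, hle n n.2, by rw [← e', h]⟩

theorem card_C_diag : Nat.card ↥(centralizer ({c.d₁ * c.d₂} : Set G)) =
    2 * Nat.card ↥(c.core (c.d₁ * c.d₂)) := by
  set C := centralizer ({c.d₁ * c.d₂} : Set G)
  set N := c.core (c.d₁ * c.d₂)
  have hidx : (N.subgroupOf C).index = 2 := by
    rw [Subgroup.index_eq_two_iff']
    refine ⟨⟨c.z, c.z_mem_C_diag⟩, fun ⟨b, hb⟩ => ?_⟩
    have hzN : c.z ∉ N := fun h => by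
      have := odd_orderOf_of_mem (c.odd_core _) h
      rw [c.orderOf_z] at this
      exact absurd this (by decide)
    show Xor (c.z * b ∈ N) (b ∈ N)
    rcases c.mem_C_diag hb with h | ⟨o, ho, rfl⟩
    · refine Or.inr ⟨h, fun h' => hzN ?_⟩
      have := mul_mem h' (inv_mem h)
      rwa [mul_inv_cancel_right] at this
    · refine Or.inl ⟨?_, fun h' => hzN ?_⟩
      · have := conj_mem' (c.C_normalizes_core _ c.z_mem_C_diag) ho
        rw [inv_eq_of_mul_eq_one_right c.z_sq, mul_assoc] at this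
        exact this
      · have := mul_mem (inv_mem ho) h'
        rwa [inv_mul_cancel_left] at this
  have := Subgroup.card_mul_index (N.subgroupOf C)
  rw [hidx, Nat.card_congr (subgroupOfEquivOfLe (c.core_le _)).toEquiv] at this
  show Nat.card ↥C = 2 * Nat.card ↥N
  rw [← this, mul_comm]

theorem odd_mem_core_diag {g : G} (hg : g ∈ centralizer ({c.d₁ * c.d₂} : Set G))
    (ho : Odd (orderOf g)) : g ∈ c.core (c.d₁ * c.d₂) := by
  have h2 : g * g ∈ c.core (c.d₁ * c.d₂) := by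
    rcases c.mem_C_diag hg with h | ⟨o, ho', rfl⟩
    · exact mul_mem h h
    · rw [show o * c.z * (o * c.z) = o * (c.z * o * c.z) by group]
      exact mul_mem ho' (invol_conj_mem c.z_sq (c.C_normalizes_core _ c.z_mem_C_diag) ho')
  obtain ⟨m, hm⟩ := ho
  have : g = (g * g) ^ (m + 1) := by
    rw [← pow_two, ← pow_mul, show 2 * (m + 1) = orderOf g + 1 by omega, pow_succ,
      pow_orderOf_eq_one, one_mul]
  rw [this]
  exact pow_mem h2 _

theorem core_diag_inf_z : c.core (c.d₁ * c.d₂) ⊓ centralizer ({c.z} : Set G) = c.P := by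
  refine le_antisymm (fun x hx => ?_) (le_inf (fun x hx => c.odd_mem_core_diag (c.P_le_C_diag hx)
    (odd_orderOf_of_mem (by rw [c.card_P]; decide) hx)) c.P_le)
  rcases c.mem_C_diag_z hx.2 (c.core_le _ hx.1) with h | ⟨p, hp, rfl⟩
  · exact h
  · exfalso
    have := mul_mem (inv_mem (c.odd_mem_core_diag (c.P_le_C_diag hp)
      (odd_orderOf_of_mem (by rw [c.card_P]; decide) hp))) hx.1
    rw [inv_mul_cancel_left] at this
    have := odd_orderOf_of_mem (c.odd_core _) this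
    rw [c.orderOf_z] at this
    exact absurd this (by decide)

theorem cube_of_mem_P {x : G} (hx : x ∈ c.P) : x ^ 3 = 1 := by
  obtain ⟨i, j, rfl⟩ := c.mem_P.1 hx
  rw [((show Commute c.d₁ c.d₂ from c.d_comm).pow_pow i j).mul_pow, ← pow_mul, ← pow_mul,
    mul_comm i, mul_comm j, pow_mul, pow_mul, c.d₁_cube, c.d₂_cube, one_pow, one_pow, mul_one]

theorem t_conj_P {x : G} (hx : x ∈ c.P) : c.t * x * c.t = x⁻¹ := by
  obtain ⟨i, j, rfl⟩ := c.mem_P.1 hx
  have hp : ∀ (d : G) (k : ℕ), c.t * d * c.t = d⁻¹ → c.t * d ^ k * c.t = (d ^ k)⁻¹ := fun d k h => by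
    induction k with
    | zero => simp [c.t_sq]
    | succ k ih =>
      rw [pow_succ, invol_conj_mul c.t_sq, ih, h, ← mul_inv_rev, (Commute.pow_self d k).eq]
  rw [invol_conj_mul c.t_sq, hp _ _ c.t_d₁, hp _ _ c.t_d₂, ← mul_inv_rev]
  congr 1
  exact ((show Commute c.d₁ c.d₂ from c.d_comm).pow_pow i j).symm.eq

theorem t_normalizes_C_diag :
    c.t ∈ normalizer (centralizer ({c.d₁ * c.d₂} : Set G) : Set G) := by
  refine mem_normalizer_of_conj fun x hx => ?_
  rw [inv_eq_of_mul_eq_one_right c.t_sq, mem_centralizer_singleton_iff]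
  have h : c.t * (c.d₁ * c.d₂) * c.t = (c.d₁ * c.d₂)⁻¹ := c.t_conj_P c.diag_mem
  have h' : c.t * (c.d₁ * c.d₂)⁻¹ * c.t = c.d₁ * c.d₂ := by rw [← h, invol_conj_invol c.t_sq]
  rw [← h', ← invol_conj_mul c.t_sq, ← invol_conj_mul c.t_sq,
    (Commute.inv_right (show Commute x (c.d₁ * c.d₂) from mem_centralizer_singleton_iff.1 hx)).eq]

theorem t_normalizes_core_diag : c.t ∈ normalizer (c.core (c.d₁ * c.d₂) : Set G) := by
  refine mem_normalizer_of_conj fun x hx => ?_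
  refine c.odd_mem_core_diag (conj_mem' c.t_normalizes_C_diag (c.core_le _ hx)) ?_
  rw [show c.t * x * c.t⁻¹ = MulAut.conj c.t x from rfl, MulEquiv.orderOf_eq]
  exact odd_orderOf_of_mem (c.odd_core _) hx

/-- The core of the centralizer of the diagonal element has order dividing `729`. -/
theorem card_core_diag_dvd : Nat.card ↥(c.core (c.d₁ * c.d₂)) ∣ 729 := by
  set N := c.core (c.d₁ * c.d₂)
  have hV : N ⊓ centralizer ({c.z} : Set G) ⊓ centralizer ({c.t} : Set G) = ⊥ := by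
    rw [c.core_diag_inf_z, eq_bot_iff]
    intro x hx
    exact Subgroup.mem_bot.2 (c.eq_one_of_cube_of_comm_t (c.P_le hx.1) (c.cube_of_mem_P hx.1)
      (mem_centralizer_singleton_iff.1 hx.2))
  have h := card_eq_mul_of_four (c.odd_core _) c.z_sq c.t_sq c.zt_comm
    (c.C_normalizes_core _ c.z_mem_C_diag) c.t_normalizes_core_diag hV
  rw [h, c.core_diag_inf_z, c.card_P, show (729 : ℕ) = 9 * 9 * 9 by rfl]
  refine mul_dvd_mul (mul_dvd_mul_left 9 (c.card_dvd_nine c.orderOf_t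
    ((c.odd_core _).of_dvd_nat (card_dvd_of_le inf_le_left)) inf_le_right)) ?_
  refine c.card_dvd_nine ?_ ((c.odd_core _).of_dvd_nat (card_dvd_of_le inf_le_left)) inf_le_right
  refine orderOf_eq_prime ?_ fun e => ?_
  · rw [pow_two]
    calc c.z * c.t * (c.z * c.t) = c.z * c.t * (c.t * c.z) := by rw [c.zt_comm]
      _ = c.z * (c.t * c.t) * c.z := by group
      _ = 1 := by rw [c.t_sq, mul_one, c.z_sq]
  · have hzt : c.z = c.t := by
      rw [← mul_one c.z, ← c.t_sq, ← mul_assoc, e, one_mul]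
    have h1 := c.k₂_t
    rw [← hzt, c.z_sq] at h1
    exact c.z_ne_one (conj_eq_one_iff.1 h1)

theorem card_C_diag_dvd : Nat.card ↥(centralizer ({c.d₁ * c.d₂} : Set G)) ∣ 2 * 729 := by
  rw [c.card_C_diag]
  exact mul_dvd_mul_left 2 c.card_core_diag_dvd

/-- The centralizer of the diagonal element has no element of order four. -/
theorem not_orderOf_four {g : G} (hg : g ∈ centralizer ({c.d₁ * c.d₂} : Set G)) :
    orderOf g ≠ 4 := fun h => by
  have h1 : orderOf g ∣ 2 * 729 := (Subgroup.orderOf_dvd_natCard _ hg).trans c.card_C_diag_dvd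
  rw [h] at h1
  omega

theorem orderOf_k₂ : orderOf c.k₂ = 4 := by
  haveI : Fact (Nat.Prime 2) := ⟨Nat.prime_two⟩
  have := orderOf_eq_prime_pow (p := 2) (n := 1) (x := c.k₂)
    (by rw [pow_one, pow_two, c.k₂_sq]; exact c.z_ne_one)
    (by rw [pow_succ, pow_one, pow_mul, pow_two c.k₂, c.k₂_sq, pow_two, c.z_sq])
  simpa using this

/-- The diagonal element is not conjugate to an element whose centralizer has an element of order 4. -/
theorem not_conj_diag_d₁ (g : G) : g * c.d₁ * g⁻¹ ≠ c.d₁ * c.d₂ := fun h => by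
  refine c.not_orderOf_four (g := g * c.k₂ * g⁻¹) ?_ ?_
  · rw [← h, mem_centralizer_singleton_iff]
    calc g * c.k₂ * g⁻¹ * (g * c.d₁ * g⁻¹) = g * (c.k₂ * c.d₁) * g⁻¹ := by group
      _ = g * (c.d₁ * c.k₂) * g⁻¹ := by rw [c.k₂_d₁]
      _ = _ := by group
  · rw [show g * c.k₂ * g⁻¹ = MulAut.conj g c.k₂ from rfl, MulEquiv.orderOf_eq, c.orderOf_k₂]

/-- The involutions of the centralizer of `d₁` are conjugate there to `z`. -/
theorem exists_conj_invol {v : G} (hv : v ∈ centralizer ({c.d₁} : Set G)) (hv2 : orderOf v = 2) :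
    ∃ r ∈ centralizer ({c.d₁} : Set G), r * c.z * r⁻¹ = v := by
  have hN := c.C_normalizes_core c.d₁
  obtain ⟨o, ho, h, hh, rfl⟩ := c.mem_C_d₁ hv
  have hsq : o * h * (o * h) = 1 := by rw [← pow_two, ← hv2, pow_orderOf_eq_one]
  have hh2 : h * h ∈ c.D₁ := by
    rw [← c.core_inf_z]
    refine Subgroup.mem_inf.2 ⟨?_, mul_mem hh.1 hh.1⟩
    have h1 : h⁻¹ * o * h ∈ c.core c.d₁ := inv_conj_mem (hN hh.2) ho
    have : h * h = (o * h) * (o * h) * (h⁻¹ * o * h)⁻¹ * ((h * h)⁻¹ * o⁻¹ * (h * h)) := by group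
    rw [this, hsq, one_mul]
    have hhC : h * h ∈ centralizer ({c.d₁} : Set G) := mul_mem hh.2 hh.2
    exact mul_mem (inv_mem h1) (inv_conj_mem (hN hhC) (inv_mem ho))
  obtain ⟨d, hd, ⟨b, hb⟩, rfl⟩ := c.mem_CC hh
  have hds : d * c.sl₂ ⟨b, hb⟩ = c.sl₂ ⟨b, hb⟩ * d :=
    (c.D₁_central (c.sl₂_mem _).2 hd).symm
  have hb2 : c.sl₂ (⟨b, hb⟩ * ⟨b, hb⟩) ∈ c.D₁ := by
    have e : d * c.sl₂ ⟨b, hb⟩ * (d * c.sl₂ ⟨b, hb⟩) = d * d * c.sl₂ (⟨b, hb⟩ * ⟨b, hb⟩) := by
      rw [map_mul]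
      calc d * c.sl₂ ⟨b, hb⟩ * (d * c.sl₂ ⟨b, hb⟩) = d * (c.sl₂ ⟨b, hb⟩ * d) * c.sl₂ ⟨b, hb⟩ := by group
        _ = _ := by rw [← hds]; group
    rw [e] at hh2
    have := mul_mem (inv_mem (mul_mem hd hd)) hh2
    rwa [inv_mul_cancel_left] at this
  have hbb : b * b = 1 := by
    obtain ⟨n, hn⟩ := mem_zpowers_iff.1 hb2
    have : c.φ (pD1 ^ n) = c.φ ⟨(1, b * b), det_one' (MonoidHom.mem_ker.1 (mul_mem hb hb))⟩ := by
      rw [map_zpow]; exact hn
    rcases c.phi_eq_iff.1 this with e | e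
    · have := congrArg (fun p : Pair => (p : M23 × M23).2) e
      simpa [pD1] using this.symm
    · exfalso
      have e1 := congrArg (fun p : Pair => (p : M23 × M23).1) e
      simp [pD1, pNeg] at e1
      have h3 : ((upper ^ n) ^ 3 : M23) = 1 := by
        rw [← zpow_natCast, ← zpow_mul, mul_comm, zpow_mul, zpow_natCast, GTwoRec.upper_cube,
          one_zpow]
      rw [e1, Odd.neg_pow (by decide), one_pow] at h3
      have := congrArg (fun g : M23 => (g : Mat3) 0 0) h3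
      simp at this
      exact absurd this (by decide)
  have hb1 : b = 1 ∨ b = -1 := by
    have key : ∀ m : Mat3, m.det ≠ 0 → m.det = 1 → m * m = 1 → m = 1 ∨ m = -1 := by decide
    obtain e | e := forall_M23 (P := fun m => m.det = 1 → m * m = 1 → m = 1 ∨ m = -1) key b
      ((det_eq_one_iff b).1 hb) (by rw [← Units.val_mul, hbb, Units.val_one])
    · exact Or.inl (M23.ext_val e)
    · exact Or.inr (M23.ext_val (by rw [val_neg]; exact e))
  obtain ⟨o', ho', hv'⟩ : ∃ o' ∈ c.core c.d₁, o * (d * c.sl₂ ⟨b, hb⟩) = o' ∨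
      o * (d * c.sl₂ ⟨b, hb⟩) = o' * c.z := by
    refine ⟨o * d, mul_mem ho (c.D₁_le_core hd), ?_⟩
    rcases hb1 with rfl | rfl
    · refine Or.inl ?_
      rw [show c.sl₂ ⟨(1 : M23), hb⟩ = 1 from map_one c.sl₂, mul_one]
    · refine Or.inr ?_
      rw [show c.sl₂ ⟨(-1 : M23), hb⟩ = c.z from c.z_eq, mul_assoc]
  rcases hv' with e | e <;> rw [e] at hv2 hsq ⊢
  · exfalso
    have := odd_orderOf_of_mem (c.odd_core _) ho'
    rw [hv2] at this
    exact absurd this (by decide)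
  · have hinv : c.z * o' * c.z = o'⁻¹ :=
      eq_inv_of_mul_eq_one_right (by rw [← hsq]; group)
    set r := oddRoot o'
    have hr : r * r = o' := oddRoot_sq (odd_orderOf_of_mem (c.odd_core _) ho')
    have hrK : r ∈ c.core c.d₁ := oddRoot_mem ho'
    have hzr : c.z * r * c.z = r⁻¹ := by
      refine eq_of_sq_eq (c.odd_core _) (invol_conj_mem c.z_sq c.z_normalizes_core hrK) (inv_mem hrK) ?_
      rw [← invol_conj_mul c.z_sq, hr, hinv, ← hr, mul_inv_rev]
    refine ⟨r, c.core_le _ hrK, ?_⟩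
    calc r * c.z * r⁻¹ = r * c.z * (c.z * r * c.z) := by rw [hzr]
      _ = r * (c.z * c.z) * r * c.z := by group
      _ = o' * c.z := by rw [c.z_sq, mul_one, hr]

/-- `d₂` is not conjugate into `D₁`. -/
theorem not_conj_d₂_D₁ (g : G) : g * c.d₂ * g⁻¹ ∉ c.D₁ := by
  intro h
  have hne : g * c.d₂ * g⁻¹ ≠ 1 := fun e => c.d₂_ne_one (conj_eq_one_iff.1 e)
  have hgen : zpowers (g * c.d₂ * g⁻¹) = c.D₁ := GTwoRec.eq_of_le_of_card (zpowers_le.2 h) (by
    rw [c.card_D₁, Nat.card_zpowers, show g * c.d₂ * g⁻¹ = MulAut.conj g c.d₂ from rfl,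
      MulEquiv.orderOf_eq, c.orderOf_d₂])
  have hv : g * c.z * g⁻¹ ∈ centralizer ({c.d₁} : Set G) := by
    have hd : c.d₁ ∈ zpowers (g * c.d₂ * g⁻¹) := hgen ▸ mem_zpowers _
    obtain ⟨n, hn⟩ := mem_zpowers_iff.1 hd
    rw [mem_centralizer_singleton_iff, ← hn]
    exact (Commute.zpow_right (show Commute (g * c.z * g⁻¹) (g * c.d₂ * g⁻¹) from
      (show Commute c.z c.d₂ from c.z_comm_of_mem c.d₂_mem).map (MulAut.conj g).toMonoidHom) n).eq
  obtain ⟨r, hr, e⟩ := c.exists_conj_invol hv (by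
    rw [show g * c.z * g⁻¹ = MulAut.conj g c.z from rfl, MulEquiv.orderOf_eq, c.orderOf_z])
  refine c.conj_d₂_notMem (g := r⁻¹ * g) (mem_centralizer_singleton_iff.2 ?_) ?_
  · calc r⁻¹ * g * c.z = r⁻¹ * (g * c.z * g⁻¹) * g := by group
      _ = c.z * (r⁻¹ * g) := by rw [← e]; group
  · have e1 : r⁻¹ * g * c.d₂ * (r⁻¹ * g)⁻¹ = r⁻¹ * (g * c.d₂ * g⁻¹) * r := by group
    rw [e1, mul_assoc, ← c.D₁_central hr h, inv_mul_cancel_left]
    exact h

/-- An element of order three centralizing an involution is conjugate to one of three kinds. -/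
theorem kinds {x v : G} (hx : orderOf x = 3) (hv : orderOf v = 2) (hc : x * v = v * x) :
    (∃ g, g * x * g⁻¹ ∈ c.D₁) ∨ (∃ g, g * x * g⁻¹ ∈ c.D₂) ∨
      (∃ g, g * x * g⁻¹ = c.d₁ * c.d₂) ∨ (∃ g, g * x * g⁻¹ = (c.d₁ * c.d₂)⁻¹) ∨
      (∃ g, g * x * g⁻¹ = c.twist.d₁ * c.twist.d₂) ∨
      (∃ g, g * x * g⁻¹ = (c.twist.d₁ * c.twist.d₂)⁻¹) := by
  obtain ⟨g, hg⟩ := isConj_iff.1 (c.one v hv)
  have hy : g⁻¹ * x * g ∈ centralizer ({c.z} : Set G) := by
    rw [mem_centralizer_singleton_iff]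
    change g * c.z * g⁻¹ = v at hg
    rw [← hg] at hc
    calc g⁻¹ * x * g * c.z = g⁻¹ * (x * (g * c.z * g⁻¹)) * g := by group
      _ = g⁻¹ * ((g * c.z * g⁻¹) * x) * g := by rw [hc]
      _ = _ := by group
  have hy3 : (g⁻¹ * x * g) ^ 3 = 1 := by
    have h1 : x ^ 3 = 1 := by rw [← hx, pow_orderOf_eq_one]
    calc (g⁻¹ * x * g) ^ 3 = g⁻¹ * x ^ 3 * g := by simp [pow_succ, mul_assoc]
      _ = 1 := by rw [h1]; group
  obtain ⟨k, -, i, j, e⟩ := c.exists_conj_eq hy hy3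
  have e' : k * g⁻¹ * x * (k * g⁻¹)⁻¹ = c.d₁ ^ (i : ℕ) * c.d₂ ^ (j : ℕ) := by rw [← e]; group
  have hsq : ∀ d : G, d ^ 3 = 1 → d ^ 2 = d⁻¹ := fun d h =>
    eq_inv_of_mul_eq_one_left (by rw [← pow_succ]; exact h)
  have hcm : Commute c.d₁ c.d₂ := c.d_comm
  have hinv : (c.d₁ * c.d₂)⁻¹ = c.d₁⁻¹ * c.d₂⁻¹ := by
    rw [mul_inv_rev]; exact (hcm.inv_inv).symm.eq
  have htw : (c.twist.d₁ * c.twist.d₂)⁻¹ = c.d₁⁻¹ * c.d₂ := by
    rw [twist_d₁, twist_d₂, mul_inv_rev, inv_inv]; exact (hcm.inv_left).symm.eq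
  fin_cases i <;> fin_cases j <;> simp only [pow_zero, pow_one, one_mul, mul_one] at e'
  · exfalso
    have : x = 1 := conj_eq_one_iff.1 e'
    rw [this, orderOf_one] at hx
    omega
  · exact Or.inr (Or.inl ⟨k * g⁻¹, by rw [e']; exact mem_zpowers _⟩)
  · exact Or.inr (Or.inl ⟨k * g⁻¹, by rw [e']; exact pow_mem (mem_zpowers _) _⟩)
  · exact Or.inl ⟨k * g⁻¹, by rw [e']; exact mem_zpowers _⟩
  · exact Or.inr (Or.inr (Or.inl ⟨_, e'⟩))
  · refine Or.inr (Or.inr (Or.inr (Or.inr (Or.inl ⟨_, e'.trans ?_⟩))))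
    rw [twist_d₁, twist_d₂, hsq _ c.d₂_cube]
  · exact Or.inl ⟨k * g⁻¹, by rw [e']; exact pow_mem (mem_zpowers _) _⟩
  · refine Or.inr (Or.inr (Or.inr (Or.inr (Or.inr ⟨_, e'.trans ?_⟩))))
    rw [htw, hsq _ c.d₁_cube]
  · refine Or.inr (Or.inr (Or.inr (Or.inl ⟨_, e'.trans ?_⟩)))
    rw [hinv, hsq _ c.d₁_cube, hsq _ c.d₂_cube]

end Cfg

end Cfsg.Agent.H32.GTwoTwoLocal
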