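import Cfsg.Agent.H32.GTwoTwoLocal.Basic
import Cfsg.Agent.H32.GTwoRec.Tools
import Cfsg.Agent.Cores.PCore
import Cfsg.Agent.H61.ZStarInst
import Cfsg.Agent.H61.ZStarCor3

/-!
The centralizer of an element of order three of one factor.
-/

set_option autoImplicit false
set_option linter.unusedSectionVars false
set_option linter.style.haveILetI false

namespace Cfsg.Agent.H32.GTwoTwoLocal

open Subgroup
open scoped commutatorElement
open Cfsg.Agent.H32.GTwoRec (M23 upper lower Mat3 conj_mem' inv_conj_mem mem_normalizer_of_conj)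

universe u

theorem dvd_nine_of_odd {n : ℕ} (hn : Odd n) (h : n ∣ 576) : n ∣ 9 :=
  ((Nat.coprime_two_right.mpr hn).pow_right 6).dvd_of_dvd_mul_left h

namespace Cfg

variable {G : Type u} [Group G] (c : Cfg G)

theorem core_le (x : G) : c.core x ≤ centralizer ({x} : Set G) := map_subtype_le _

variable [Finite G]

theorem odd_core (x : G) : Odd (Nat.card ↥(c.core x)) := by
  rw [core, Subgroup.card_map_of_injective (subtype_injective _)]
  exact Cores.odd_card_oddCore

theorem C_normalizes_core (x : G) : centralizer ({x} : Set G) ≤ normalizer (c.core x : Set G) := by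
  intro g hg
  refine mem_normalizer_of_conj fun y hy => ?_
  obtain ⟨w, hw, rfl⟩ := hy
  haveI : (Cfsg.oddCore ↥(centralizer ({x} : Set G))).Normal :=
    Subgroup.normal_of_characteristic _
  exact ⟨⟨g, hg⟩ * w * ⟨g, hg⟩⁻¹, Subgroup.Normal.conj_mem inferInstance w hw _, rfl⟩

theorem le_core {x : G} {N : Subgroup G} (hN : N ≤ centralizer ({x} : Set G))
    (hodd : Odd (Nat.card N)) (hn : centralizer ({x} : Set G) ≤ normalizer (N : Set G)) :
    N ≤ c.core x := by
  haveI : (N.subgroupOf (centralizer ({x} : Set G))).Normal :=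
    normal_subgroupOf_iff_le_normalizer hN |>.2 hn
  have h := Cores.le_oddCore (N := N.subgroupOf (centralizer ({x} : Set G)))
    (by rwa [Nat.card_congr (subgroupOfEquivOfLe hN).toEquiv])
  intro y hy
  exact ⟨⟨y, hN hy⟩, h hy, rfl⟩

/-- A subgroup of odd order of the centralizer of an involution has order dividing 9. -/
theorem card_dvd_nine (c : Cfg G) {v : G} (hv : orderOf v = 2) {K : Subgroup G} (hK : Odd (Nat.card K))
    (hle : K ≤ centralizer ({v} : Set G)) : Nat.card K ∣ 9 := by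
  obtain ⟨g, hg⟩ := isConj_iff.1 (c.one v hv)
  have hle' : K.map (MulAut.conj g⁻¹).toMonoidHom ≤ centralizer ({c.z} : Set G) := by
    rintro _ ⟨k, hk, rfl⟩
    have h := mem_centralizer_singleton_iff.1 (hle hk)
    rw [mem_centralizer_singleton_iff]
    simp only [MulEquiv.coe_toMonoidHom, MulAut.conj_apply, inv_inv, z]
    rw [← hg] at h
    calc g⁻¹ * k * g * c.φ pZ = g⁻¹ * (k * (g * c.φ pZ * g⁻¹)) * g := by group
      _ = g⁻¹ * (g * c.φ pZ * g⁻¹ * k) * g := by rw [h]
      _ = c.φ pZ * (g⁻¹ * k * g) := by group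
  have h := card_dvd_of_le hle'
  rw [Subgroup.card_map_of_injective (MulAut.conj g⁻¹).injective, c.card_C] at h
  exact dvd_nine_of_odd hK h

/-- The second factor, with the centre. -/
noncomputable def sl₂ : (Matrix.GeneralLinearGroup.det (n := Fin 2) (R := ZMod 3)).ker →* G :=
  c.φ.comp ((MonoidHom.inr M23 M23).comp (Subgroup.subtype _) |>.codRestrict Pair
    fun b => det_one' b.2)

theorem sl₂_apply {b : M23} (hb : Matrix.GeneralLinearGroup.det b = 1) :
    c.sl₂ ⟨b, hb⟩ = c.φ ⟨(1, b), det_one' hb⟩ := rfl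

/-- The quaternion group of the second factor. -/
noncomputable def quat : QuaternionGroup 2 →* G :=
  c.sl₂.comp (MonoidHom.mk' (fun q => ⟨qval q, qval_det q⟩) fun p q => Subtype.ext (qval_mul p q))

theorem sl₂_eq_one {b : M23} {hb : Matrix.GeneralLinearGroup.det b = 1}
    (h : c.sl₂ ⟨b, hb⟩ = 1) : b = 1 := by
  rw [sl₂_apply, c.ker] at h
  rcases h with h | h
  · exact congrArg (fun p : Pair => (p : M23 × M23).2) h
  · exfalso
    have := congrArg (fun p : Pair => (((p : M23 × M23).1 : M23) : Mat3) 0 0) h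
    simp [pNeg] at this
    exact absurd this (by decide)

theorem sl₂_injective : Function.Injective c.sl₂ :=
  (injective_iff_map_eq_one _).2 fun ⟨_, _⟩ h => Subtype.ext (c.sl₂_eq_one h)

theorem quat_injective : Function.Injective c.quat :=
  (injective_iff_map_eq_one _).2 fun _ h => qval_eq_one (c.sl₂_eq_one h)

theorem sl₂_mem (b : (Matrix.GeneralLinearGroup.det (n := Fin 2) (R := ZMod 3)).ker) :
    c.sl₂ b ∈ centralizer ({c.z} : Set G) ⊓ centralizer ({c.d₁} : Set G) :=
  ⟨c.phi_mem _, mem_centralizer_singleton_iff.2 (c.sl2_comm_d₁ b.2)⟩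

/-- The common centralizer of `z` and `d₁`. -/
theorem mem_CC {g : G} (hg : g ∈ centralizer ({c.z} : Set G) ⊓ centralizer ({c.d₁} : Set G)) :
    ∃ d ∈ c.D₁, ∃ b, g = d * c.sl₂ b := by
  obtain ⟨i, b, hb, e⟩ := c.eq_of_comm_d₁ hg.1 (mem_centralizer_singleton_iff.1 hg.2)
  exact ⟨c.d₁ ^ i, pow_mem (mem_zpowers _) i, ⟨b, hb⟩, e⟩

theorem d₁_le : c.D₁ ≤ centralizer ({c.z} : Set G) ⊓ centralizer ({c.d₁} : Set G) :=
  zpowers_le.2 ⟨c.d₁_mem, mem_centralizer_singleton_iff.2 rfl⟩

theorem card_D₁ : Nat.card ↥c.D₁ = 3 := by rw [D₁, Nat.card_zpowers, c.orderOf_d₁]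

theorem card_CC :
    Nat.card ↥(centralizer ({c.z} : Set G) ⊓ centralizer ({c.d₁} : Set G)) = 72 := by
  have hcomm : ∀ (d : c.D₁) (b : (Matrix.GeneralLinearGroup.det (n := Fin 2) (R := ZMod 3)).ker),
      Commute (c.D₁.subtype d) (c.sl₂ b) := fun d b => by
    obtain ⟨n, hn⟩ := mem_zpowers_iff.1 d.2
    show Commute (d : G) (c.sl₂ b)
    rw [← hn]
    exact (Commute.zpow_right (show Commute (c.sl₂ b) c.d₁ from c.sl2_comm_d₁ b.2) n).symm
  let f := MonoidHom.noncommCoprod c.D₁.subtype c.sl₂ hcomm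
  have hrange : f.range = centralizer ({c.z} : Set G) ⊓ centralizer ({c.d₁} : Set G) := by
    refine le_antisymm ?_ fun g hg => ?_
    · rintro _ ⟨⟨d, b⟩, rfl⟩
      exact mul_mem (c.d₁_le d.2) (c.sl₂_mem b)
    · obtain ⟨d, hd, b, rfl⟩ := c.mem_CC hg
      exact ⟨(⟨d, hd⟩, b), rfl⟩
  have hf : Function.Injective f := by
    refine (injective_iff_map_eq_one _).2 ?_
    rintro ⟨⟨d, hd⟩, ⟨b, hb⟩⟩ (h : d * c.sl₂ ⟨b, hb⟩ = 1)
    obtain ⟨n, hn⟩ := mem_zpowers_iff.1 hd
    have hd' : c.sl₂ ⟨b, hb⟩ = c.φ (pD1 ^ (-n)) := by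
      rw [map_zpow, zpow_neg]
      exact (eq_inv_of_mul_eq_one_right h).trans (by rw [← hn]; rfl)
    have e : d = 1 := by
      change c.φ ⟨(1, b), det_one' hb⟩ = _ at hd'
      rw [c.phi_eq_iff] at hd'
      rw [← hn]
      have h1 : upper ^ (-n) = 1 ∨ upper ^ (-n) = -1 := by
        rcases hd' with h' | h'
        · have := congrArg (fun p : Pair => (p : M23 × M23).1) h'
          simp [pD1] at this
          exact Or.inl (by simpa using this)
        · have := congrArg (fun p : Pair => (p : M23 × M23).1) h'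
          simp [pD1, pNeg] at this
          exact Or.inr (by rw [zpow_neg, this, neg_neg])
      rcases h1 with h1 | h1
      · rw [zpow_neg, inv_eq_one] at h1
        show c.φ pD1 ^ n = 1
        rw [← map_zpow, c.ker]
        exact Or.inl (Pair.ext' (by simpa [pD1] using h1) (by simp [pD1]))
      · exfalso
        have h3 : ((upper ^ (-n)) ^ 3 : M23) = 1 := by
          rw [← zpow_natCast, ← zpow_mul, mul_comm, zpow_mul, zpow_natCast, GTwoRec.upper_cube,
            one_zpow]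
        rw [h1, Odd.neg_pow (by decide), one_pow] at h3
        have := congrArg (fun g : M23 => (g : Mat3) 0 0) h3
        simp at this
        exact absurd this (by decide)
    subst e
    rw [one_mul] at h
    exact Prod.ext rfl (Subtype.ext (c.sl₂_eq_one h))
  rw [← hrange, ← Nat.card_congr (MonoidHom.ofInjective hf).toEquiv, Nat.card_prod, c.card_D₁,
    card_det_one]

theorem t_normalizes_C : c.t ∈ normalizer (centralizer ({c.d₁} : Set G) : Set G) := by
  refine mem_normalizer_of_conj fun x hx => ?_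
  rw [mem_centralizer_singleton_iff] at hx ⊢
  have h := c.t_d₁
  have ht : c.t⁻¹ = c.t := inv_eq_of_mul_eq_one_right c.t_sq
  have hx' : x * c.d₁⁻¹ = c.d₁⁻¹ * x := Commute.inv_right hx
  rw [ht]
  calc c.t * x * c.t * c.d₁ = c.t * (x * (c.t * c.d₁ * c.t)) * c.t := by
        calc _ = c.t * x * c.t * c.d₁ * (c.t * c.t) := by rw [c.t_sq, mul_one]
          _ = _ := by group
    _ = c.t * (c.t * c.d₁ * c.t * x) * c.t := by rw [h, hx']
    _ = (c.t * c.t) * c.d₁ * c.t * x * c.t := by group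
    _ = c.d₁ * (c.t * x * c.t) := by rw [c.t_sq]; group

theorem t_normalizes_core : c.t ∈ normalizer (c.core c.d₁ : Set G) := by
  have hle : (c.core c.d₁).map (MulAut.conj c.t).toMonoidHom ≤ c.core c.d₁ := by
    refine c.le_core ?_ ?_ ?_
    · rintro _ ⟨x, hx, rfl⟩
      exact conj_mem' c.t_normalizes_C (c.core_le _ hx)
    · rw [Subgroup.card_map_of_injective (MulAut.conj c.t).injective]; exact c.odd_core _
    · intro g hg
      refine mem_normalizer_of_conj ?_
      rintro _ ⟨x, hx, rfl⟩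
      refine ⟨c.t⁻¹ * g * c.t * x * (c.t⁻¹ * g * c.t)⁻¹,
        conj_mem' (c.C_normalizes_core _ (inv_conj_mem c.t_normalizes_C hg)) hx, ?_⟩
      simp [mul_assoc]
  exact mem_normalizer_of_conj fun x hx => hle ⟨x, hx, rfl⟩

theorem z_mem_C : c.z ∈ centralizer ({c.d₁} : Set G) :=
  mem_centralizer_singleton_iff.2 (c.z_comm_of_mem c.d₁_mem)

theorem k₂_mem_C : c.k₂ ∈ centralizer ({c.d₁} : Set G) :=
  mem_centralizer_singleton_iff.2 c.k₂_d₁

theorem z_normalizes_core : c.z ∈ normalizer (c.core c.d₁ : Set G) :=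
  c.C_normalizes_core _ c.z_mem_C

theorem core_inf_z : c.core c.d₁ ⊓ centralizer ({c.z} : Set G) = c.D₁ := by
  have hD : c.D₁ ≤ c.core c.d₁ := by
    refine c.le_core (c.d₁_le.trans inf_le_right) ?_ fun g hg => mem_normalizer_of_conj fun x hx => ?_
    · rw [c.card_D₁]; decide
    · obtain ⟨n, rfl⟩ := mem_zpowers_iff.1 hx
      have hgc : Commute g (c.d₁ ^ n) :=
        Commute.zpow_right (show Commute g c.d₁ from mem_centralizer_singleton_iff.1 hg) n
      rw [hgc.eq, mul_inv_cancel_right]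
      exact hx
  refine le_antisymm (fun x hx => ?_) (le_inf hD (c.d₁_le.trans inf_le_left))
  obtain ⟨d, hd, ⟨b, hb⟩, rfl⟩ := c.mem_CC ⟨hx.2, c.core_le _ hx.1⟩
  set y := c.sl₂ ⟨b, hb⟩ with hydef
  have hy : y ∈ c.core c.d₁ := by
    have := mul_mem (inv_mem (hD hd)) hx.1
    rwa [inv_mul_cancel_left] at this
  have key : ∀ q : QuaternionGroup 2, y * c.quat q = c.quat q * y := by
    intro q
    have hq : c.quat q ∈ centralizer ({c.d₁} : Set G) := (c.sl₂_mem _).2
    have h1 : y * c.quat q * y⁻¹ * (c.quat q)⁻¹ ∈ c.core c.d₁ := by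
      have := mul_mem hy (conj_mem' (c.C_normalizes_core _ hq) (inv_mem hy))
      convert this using 1
      group
    obtain ⟨r, hr⟩ : ∃ r, y * c.quat q * y⁻¹ * (c.quat q)⁻¹ = c.quat r := by
      have hb' : ∃ r, b * qval q * b⁻¹ = qval r := by
        have key : ∀ m : Mat3, m.det ≠ 0 → ∀ q : QuaternionGroup 2, ∃ r : QuaternionGroup 2,
            m * qval q = (qval r : Mat3) * m := by decide +kernel
        obtain ⟨r, hr⟩ := forall_M23 (P := fun m => ∀ q : QuaternionGroup 2, ∃ r : QuaternionGroup 2,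
            m * qval q = (qval r : Mat3) * m) key b q
        exact ⟨r, mul_inv_eq_iff_eq_mul.2 (M23.ext_val (by rw [Units.val_mul, Units.val_mul]; exact hr))⟩
      obtain ⟨r, hr⟩ := hb'
      refine ⟨r * q⁻¹, ?_⟩
      rw [map_mul, map_inv, hydef]
      congr 1
      show c.sl₂ ⟨b, hb⟩ * c.sl₂ ⟨qval q, qval_det q⟩ * (c.sl₂ ⟨b, hb⟩)⁻¹ =
        c.sl₂ ⟨qval r, qval_det r⟩
      rw [← map_inv, ← map_mul, ← map_mul]
      exact congrArg c.sl₂ (Subtype.ext hr)
    have ho := odd_orderOf_of_mem (c.odd_core c.d₁) h1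
    rw [hr, orderOf_injective _ c.quat_injective] at ho
    have h8 : orderOf r ∣ 2 ^ 3 := by
      have := orderOf_dvd_natCard r
      rwa [Nat.card_eq_fintype_card, QuaternionGroup.card] at this
    have hr1 : orderOf r = 1 := ((Nat.coprime_two_right.mpr ho).pow_right 3).eq_one_of_dvd h8
    rw [orderOf_eq_one_iff.1 hr1, map_one, mul_inv_eq_one, mul_inv_eq_iff_eq_mul] at hr
    exact hr
  have hcomm : ∀ q : QuaternionGroup 2, b * qval q = qval q * b := fun q => by
    have h := key q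
    change c.sl₂ ⟨b, hb⟩ * c.sl₂ ⟨qval q, qval_det q⟩ = c.sl₂ ⟨qval q, qval_det q⟩ * c.sl₂ ⟨b, hb⟩ at h
    rw [← map_mul, ← map_mul] at h
    exact congrArg Subtype.val (c.sl₂_injective h)
  obtain rfl | rfl := eq_pm_one_of_comm_quarters hb
    (by simpa using (show b * quarter ^ 1 = quarter ^ 1 * b from hcomm (.a 1))) (by simpa [qval] using hcomm (.xa 0))
  · have : y = 1 := map_one c.sl₂
    rw [this, mul_one]; exact hd
  · exfalso
    have ho := odd_orderOf_of_mem (c.odd_core c.d₁) hy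
    have hyz : y = c.z := by
      rw [hydef]
      exact c.z_eq
    rw [hyz, c.orderOf_z] at ho
    exact absurd ho (by decide)

theorem D₁_le_core : c.D₁ ≤ c.core c.d₁ := c.core_inf_z ▸ inf_le_left

theorem core_inf_zt : c.core c.d₁ ⊓ centralizer ({c.z} : Set G) ⊓ centralizer ({c.t} : Set G) = ⊥ := by
  rw [c.core_inf_z, eq_bot_iff]
  intro x hx
  have h3 : x ^ 3 = 1 := by
    obtain ⟨n, rfl⟩ := mem_zpowers_iff.1 hx.1
    rw [← zpow_natCast, ← zpow_mul, mul_comm, zpow_mul, zpow_natCast, c.d₁_cube, one_zpow]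
  exact Subgroup.mem_bot.2 (c.eq_one_of_cube_of_comm_t (c.d₁_le hx.1).1 h3
    (mem_centralizer_singleton_iff.1 hx.2))

theorem quat_z : c.quat (.a 2) = c.z := by
  show c.sl₂ ⟨qval (.a 2), _⟩ = c.z
  rw [sl₂_apply, ← c.z_eq]
  exact congrArg c.φ (Pair.ext' rfl (show quarter ^ 2 = -1 by rw [pow_two, quarter_sq]))

/-- Brauer–Suzuki for the centralizer of `d₁`. -/
theorem z_central_mod_core {g : G} (hg : g ∈ centralizer ({c.d₁} : Set G)) :
    c.z * g * c.z⁻¹ * g⁻¹ ∈ c.core c.d₁ := by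
  haveI : Fact (Nat.Prime 2) := ⟨Nat.prime_two⟩
  set C := centralizer ({c.d₁} : Set G)
  have hR : c.quat.range ≤ C := by
    rintro _ ⟨q, rfl⟩
    exact (c.sl₂_mem _).2
  have hcR : Nat.card c.quat.range = 8 := by
    rw [← Nat.card_congr (MonoidHom.ofInjective c.quat_injective).toEquiv, Nat.card_eq_fintype_card,
      QuaternionGroup.card]
  have hp : IsPGroup 2 (c.quat.range.subgroupOf C) := IsPGroup.of_card (n := 3) (by
    rw [Nat.card_congr (subgroupOfEquivOfLe hR).toEquiv, hcR]; rfl)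
  obtain ⟨S, hS⟩ := hp.exists_le_sylow
  have hinv : ∀ q : QuaternionGroup 2, q ≠ 1 → q * q = 1 → q = .a 2 := by decide
  have hzR : c.z ∈ c.quat.range := ⟨_, c.quat_z⟩
  have hSR : (S : Subgroup C) = c.quat.range.subgroupOf C := by
    by_contra hne
    have hlt := lt_of_le_of_ne hS (Ne.symm hne)
    obtain ⟨x, hxS, hxn, hxR⟩ : ∃ x ∈ (S : Subgroup C),
        x ∈ normalizer ((c.quat.range.subgroupOf C : Subgroup C) : Set C) ∧
        x ∉ c.quat.range.subgroupOf C := by
      haveI := S.isPGroup'.isNilpotent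
      obtain ⟨x, hx, hx'⟩ := SetLike.exists_of_lt
        ((Group.normalizerCondition_of_isNilpotent (G := (S : Subgroup C)))
          ((c.quat.range.subgroupOf C).subgroupOf S) (lt_of_le_of_ne le_top fun e => hne
            (le_antisymm (subgroupOf_eq_top.1 e) hS)))
      refine ⟨x, x.2, mem_normalizer_of_conj fun w hw => ?_, hx'⟩
      have := (mem_normalizer_iff.1 hx ⟨w, hS hw⟩).1 hw
      exact this
    have hz' : (x : G) * c.z = c.z * x := by
      obtain ⟨q, hq⟩ : (x : G) * c.z * (x : G)⁻¹ ∈ c.quat.range :=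
        conj_mem' (N := c.quat.range.subgroupOf C) (x := ⟨c.z, c.z_mem_C⟩) hxn hzR
      have hsq : q * q = 1 := c.quat_injective (by
        rw [map_mul, hq, map_one]
        calc (x : G) * c.z * (x : G)⁻¹ * ((x : G) * c.z * (x : G)⁻¹)
            = (x : G) * (c.z * c.z) * (x : G)⁻¹ := by group
          _ = 1 := by rw [c.z_sq]; group)
      have hq1 : q ≠ 1 := fun e => c.z_ne_one (by
        rw [e, map_one] at hq
        exact conj_eq_one_iff.1 hq.symm)
      rw [hinv q hq1 hsq, c.quat_z] at hq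
      exact (mul_inv_eq_iff_eq_mul.1 hq.symm)
    set S' := (S : Subgroup C) ⊓ (centralizer ({c.z} : Set G)).subgroupOf C
    have h2 : IsPGroup 2 S' := S.isPGroup'.to_le inf_le_left
    have hRS' : c.quat.range.subgroupOf C < S' := by
      refine lt_of_le_of_ne (le_inf hS fun w hw => ?_) fun e => hxR ?_
      · obtain ⟨q, hq⟩ := hw
        show (w : G) ∈ centralizer ({c.z} : Set G)
        rw [← show c.quat q = (w : G) from hq]
        exact (c.sl₂_mem _).1
      · rw [e]; exact ⟨hxS, mem_centralizer_singleton_iff.2 hz'⟩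
    obtain ⟨k, hk⟩ := h2.exists_card_eq
    have hd : Nat.card S' ∣ 72 := by
      rw [← c.card_CC, ← Subgroup.card_map_of_injective (subtype_injective C) (K := S')]
      refine card_dvd_of_le ?_
      rintro _ ⟨w, hw, rfl⟩
      exact ⟨hw.2, w.2⟩
    have h8 : Nat.card S' ∣ 8 := by
      rw [hk] at hd ⊢
      exact (Nat.Coprime.pow_left k (by decide : Nat.Coprime 2 9)).dvd_of_dvd_mul_right hd
    have hle : Nat.card S' ≤ 8 := Nat.le_of_dvd (by norm_num) h8
    have := GTwoRec.eq_of_le_of_card hRS'.le (le_antisymm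
      (Nat.card_le_card_of_injective _ (Subgroup.inclusion_injective hRS'.le))
      (by rw [Nat.card_congr (subgroupOfEquivOfLe hR).toEquiv, hcR]; exact hle))
    exact hRS'.ne this
  have hzo : orderOf (⟨c.z, c.z_mem_C⟩ : C) = 2 := by
    rw [Subgroup.orderOf_mk]; exact c.orderOf_z
  have huniq : ∀ y ∈ (S : Subgroup C), orderOf y = 2 → y = ⟨c.z, c.z_mem_C⟩ := by
    intro y hy hyo
    rw [hSR] at hy
    obtain ⟨q, hq⟩ := hy
    have hq2 : orderOf q = 2 := by
      rw [← orderOf_injective _ c.quat_injective, hq]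
      exact (Subgroup.orderOf_coe y).trans hyo
    have := hinv q (fun e => by simp [e] at hq2) (by rw [← pow_two]; exact orderOf_dvd_iff_pow_eq_one.1 (dvd_of_eq hq2))
    exact Subtype.ext (hq.symm.trans (by rw [this, c.quat_z]))
  obtain ⟨N, hN, hNodd, hNc⟩ := H61.zStar_cor_unique_involution H61.zStarTheorem S
    ⟨c.z, c.z_mem_C⟩ hzo (hS hzR) huniq
  haveI := hN
  exact ⟨_, Cores.le_oddCore hNodd (hNc ⟨g, hg⟩), rfl⟩

/-- The decomposition of the centralizer of `d₁`. -/
theorem mem_C_d₁ {g : G} (hg : g ∈ centralizer ({c.d₁} : Set G)) :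
    ∃ o ∈ c.core c.d₁, ∃ h ∈ centralizer ({c.z} : Set G) ⊓ centralizer ({c.d₁} : Set G),
      g = o * h := by
  have hn := c.C_normalizes_core c.d₁ hg
  have hx : g⁻¹ * (c.z * g * c.z⁻¹) ∈ c.core c.d₁ := by
    have := inv_conj_mem hn (c.z_central_mod_core hg)
    convert this using 1
    group
  obtain ⟨y, hy, hzy⟩ := GTwoRec.exists_fixed_of_coset (c.odd_core c.d₁) c.z_sq
    c.z_normalizes_core hx
  have hyC : y ∈ centralizer ({c.d₁} : Set G) := by
    have := mul_mem hg (c.core_le _ hy)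
    rwa [mul_inv_cancel_left] at this
  refine ⟨g * y⁻¹, ?_, y, ⟨mem_centralizer_singleton_iff.2 (mul_inv_eq_iff_eq_mul.1 hzy).symm, hyC⟩,
    by group⟩
  have h := conj_mem' hn (inv_mem hy)
  convert h using 1
  group

theorem conj_mul_self_mem {x : G} (hx : x ∈ c.core c.d₁) : c.z * x * c.z * x ∈ c.D₁ := by
  obtain ⟨a, i, ha, hza, -, hzi, rfl⟩ :=
    exists_fixed_mul_inverted (c.odd_core c.d₁) c.z_sq c.z_normalizes_core hx
  have haD : a ∈ c.D₁ := by
    rw [← c.core_inf_z]
    exact ⟨ha, (mem_centralizer_iff_conj c.z_sq).2 hza⟩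
  obtain ⟨n, rfl⟩ := mem_zpowers_iff.1 haD
  have hi : c.d₁ ^ n * i ∈ centralizer ({c.d₁} : Set G) := c.core_le _ hx
  have hi' : i ∈ centralizer ({c.d₁} : Set G) := by
    have := mul_mem (inv_mem (c.core_le _ ha)) hi
    rwa [inv_mul_cancel_left] at this
  have hc : Commute i (c.d₁ ^ n) :=
    Commute.zpow_right (show Commute i c.d₁ from mem_centralizer_singleton_iff.1 hi') n
  rw [invol_conj_mul c.z_sq, hza, hzi, show c.d₁ ^ n * i⁻¹ * (c.d₁ ^ n * i) =
    c.d₁ ^ n * (i⁻¹ * c.d₁ ^ n) * i by group, hc.inv_left.eq]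
  rw [show c.d₁ ^ n * (c.d₁ ^ n * i⁻¹) * i = c.d₁ ^ n * c.d₁ ^ n by group]
  exact mul_mem haD haD

theorem D₁_central {x d : G} (hx : x ∈ centralizer ({c.d₁} : Set G)) (hd : d ∈ c.D₁) :
    x * d = d * x := by
  obtain ⟨n, rfl⟩ := mem_zpowers_iff.1 hd
  exact (Commute.zpow_right (show Commute x c.d₁ from mem_centralizer_singleton_iff.1 hx) n).eq

theorem comm_mem_D₁ {x y : G} (hx : x ∈ c.core c.d₁) (hy : y ∈ c.core c.d₁) :
    ⁅x, y⁆ ∈ c.D₁ := by
  set u := c.z * x * c.z * x with hu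
  set v := c.z * y * c.z * y with hv
  have h := c.conj_mul_self_mem (mul_mem hx hy)
  rw [invol_conj_mul c.z_sq] at h
  have huD : u ∈ c.D₁ := c.conj_mul_self_mem hx
  have hvD : v ∈ c.D₁ := c.conj_mul_self_mem hy
  have ex : c.z * x * c.z = u * x⁻¹ := by rw [hu]; group
  have ey : c.z * y * c.z = v * y⁻¹ := by rw [hv]; group
  have hxv : x⁻¹ * v = v * x⁻¹ := c.D₁_central (c.core_le _ (inv_mem hx)) hvD
  rw [ex, ey, show u * x⁻¹ * (v * y⁻¹) * (x * y) = u * (x⁻¹ * v) * y⁻¹ * x * y by group, hxv] at h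
  have h2 : x⁻¹ * y⁻¹ * x * y ∈ c.D₁ := by
    have := mul_mem (inv_mem (mul_mem huD hvD)) h
    convert this using 1
    group
  have e : ⁅x, y⁆ = x * y * (x⁻¹ * y⁻¹ * x * y) * (x * y)⁻¹ := by
    rw [commutatorElement_def]; group
  rw [e, c.D₁_central (c.core_le _ (mul_mem hx hy)) h2, mul_inv_cancel_right]
  exact h2

/-- The order of the fixed subgroup of `t` in the core. -/
noncomputable def a : ℕ := Nat.card ↥(c.core c.d₁ ⊓ centralizer ({c.t} : Set G))

theorem card_fixed_zt :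
    Nat.card ↥(c.core c.d₁ ⊓ centralizer ({c.z * c.t} : Set G)) = c.a := by
  have hk := c.C_normalizes_core _ c.k₂_mem_C
  have e : (c.core c.d₁ ⊓ centralizer ({c.t} : Set G)).map (MulAut.conj c.k₂).toMonoidHom =
      c.core c.d₁ ⊓ centralizer ({c.z * c.t} : Set G) := by
    rw [Subgroup.map_inf _ _ _ (MulAut.conj c.k₂).injective, GTwoRec.map_conj_eq_of_mem hk]
    congr 1
    ext w
    rw [Subgroup.mem_map_equiv]
    simp only [MulAut.conj_symm_apply, mem_centralizer_singleton_iff, ← c.k₂_t]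
    constructor <;> intro h
    · calc w * (c.k₂ * c.t * c.k₂⁻¹) = c.k₂ * ((c.k₂⁻¹ * w * c.k₂) * c.t) * c.k₂⁻¹ := by group
        _ = _ := by rw [h]; group
    · calc c.k₂⁻¹ * w * c.k₂ * c.t = c.k₂⁻¹ * (w * (c.k₂ * c.t * c.k₂⁻¹)) * c.k₂ := by group
        _ = _ := by rw [h]; group
  rw [← e, Subgroup.card_map_of_injective (MulAut.conj c.k₂).injective]
  rfl

theorem card_core : Nat.card ↥(c.core c.d₁) = 3 * c.a * c.a := by
  have h := card_eq_mul_of_four (c.odd_core c.d₁) c.z_sq c.t_sq c.zt_comm c.z_normalizes_core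
    c.t_normalizes_core c.core_inf_zt
  rw [c.card_fixed_zt, c.core_inf_z, c.card_D₁] at h
  exact h

theorem a_dvd : c.a ∣ 9 :=
  c.card_dvd_nine c.orderOf_t ((c.odd_core c.d₁).of_dvd_nat (card_dvd_of_le inf_le_left)) inf_le_right

theorem a_cases : c.a = 1 ∨ c.a = 3 ∨ c.a = 9 := by
  obtain ⟨k, hk, e⟩ := (Nat.dvd_prime_pow Nat.prime_three).1 (show c.a ∣ 3 ^ 2 from c.a_dvd)
  interval_cases k <;> simp [e]

theorem core_isPGroup : IsPGroup 3 ↥(c.core c.d₁) := by
  rcases c.a_cases with h | h | h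
  · exact IsPGroup.of_card (n := 1) (by rw [c.card_core, h]; norm_num)
  · exact IsPGroup.of_card (n := 3) (by rw [c.card_core, h]; norm_num)
  · exact IsPGroup.of_card (n := 5) (by rw [c.card_core, h]; norm_num)

theorem card_C_d₁ : Nat.card ↥(centralizer ({c.d₁} : Set G)) = 24 * Nat.card ↥(c.core c.d₁) := by
  set C := centralizer ({c.d₁} : Set G)
  set N := c.core c.d₁
  set H := centralizer ({c.z} : Set G) ⊓ C
  haveI : (N.subgroupOf C).Normal :=
    (normal_subgroupOf_iff_le_normalizer (c.core_le _)).2 (c.C_normalizes_core _)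
  let π := (QuotientGroup.mk' (N.subgroupOf C)).comp (Subgroup.inclusion (inf_le_right : H ≤ C))
  have hs : Function.Surjective π := by
    intro w
    obtain ⟨⟨g, hg⟩, rfl⟩ := QuotientGroup.mk'_surjective _ w
    obtain ⟨o, ho, h, hh, rfl⟩ := c.mem_C_d₁ hg
    refine ⟨⟨h, hh⟩, (QuotientGroup.mk'_eq_mk' _).2 ⟨⟨h⁻¹ * o * h, ?_⟩, ?_, Subtype.ext ?_⟩⟩
    · exact mul_mem (mul_mem (inv_mem hh.2) (c.core_le _ ho)) hh.2
    · show h⁻¹ * o * h ∈ N
      exact inv_conj_mem (c.C_normalizes_core _ hh.2) ho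
    · show h * (h⁻¹ * o * h) = o * h
      group
  have hk : Nat.card π.ker = 3 := by
    rw [← c.card_D₁]
    have : π.ker = c.D₁.subgroupOf H := by
      ext ⟨x, hx⟩
      rw [MonoidHom.mem_ker, mem_subgroupOf, MonoidHom.comp_apply, QuotientGroup.mk'_apply,
        QuotientGroup.eq_one_iff, ← c.core_inf_z]
      exact ⟨fun h => ⟨h, hx.1⟩, fun h => h.1⟩
    rw [this]
    exact Nat.card_congr (subgroupOfEquivOfLe c.d₁_le).toEquiv
  have h := Subgroup.card_mul_index π.ker
  rw [Subgroup.index_ker, MonoidHom.range_eq_top.2 hs, Subgroup.card_top, hk, c.card_CC] at h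
  have h2 := Subgroup.card_mul_index (N.subgroupOf C)
  rw [Nat.card_congr (subgroupOfEquivOfLe (c.core_le _)).toEquiv] at h2
  have h3 : (N.subgroupOf C).index = Nat.card (C ⧸ N.subgroupOf C) := rfl
  rw [h3, show Nat.card (C ⧸ N.subgroupOf C) = 24 by omega] at h2
  rw [← h2, mul_comm]

end Cfg

end Cfsg.Agent.H32.GTwoTwoLocal
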