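import Cfsg.Agent.H32.GTwoTwoLocal.CentDiag
import Mathlib.GroupTheory.GroupAction.ConjAct

/-!
The elements of odd order centralizing both factors, and the equality of the two parameters.
-/

set_option autoImplicit false
set_option linter.unusedSectionVars false
set_option linter.style.haveILetI false

namespace Cfsg.Agent.H32.GTwoTwoLocal

open Subgroup
open scoped commutatorElement
open Cfsg.Agent.H32.GTwoRec (M23 upper lower Mat3 conj_mem' inv_conj_mem mem_normalizer_of_conj)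

universe u

/-- An automorphism of order three of an abelian group of exponent three fixes at least a cube root
of the order. -/
theorem card_le_fixed_cube {V : Type*} [CommGroup V] [Finite V] (f : V →* V)
    (hf : ∀ v, f (f (f v)) = v) (h3 : ∀ v : V, v ^ 3 = 1) :
    Nat.card V ≤ Nat.card (f / MonoidHom.id V).ker * Nat.card (f / MonoidHom.id V).ker *
      Nat.card (f / MonoidHom.id V).ker := by
  set ν := f / MonoidHom.id V with hν
  have hν' : ∀ v, ν v = f v / v := fun v => rfl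
  have hcube : ν.comp (ν.comp ν) = 1 := by
    refine MonoidHom.ext fun v => ?_
    have key : ∀ a b c : V, a / b / (b / c) / (b / c / (c / a)) = (c / b) ^ 3 := fun a b c => by
      apply Additive.ofMul.injective
      simp only [ofMul_div, ofMul_pow]
      abel
    simp only [MonoidHom.comp_apply, hν', map_div, hf, MonoidHom.one_apply]
    rw [key, h3]
  have step : ∀ g : V →* V, Nat.card (ν.comp g).ker ≤ Nat.card g.ker * Nat.card ν.ker := fun g => by
    let r : (ν.comp g).ker →* ν.ker :=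
      (g.comp (ν.comp g).ker.subtype).codRestrict ν.ker fun x => x.2
    have h := Subgroup.card_mul_index r.ker
    rw [Subgroup.index_ker] at h
    rw [← h]
    refine Nat.mul_le_mul ?_ (Nat.card_le_card_of_injective _ (subtype_injective r.range) |>.trans
      le_rfl)
    have hle : r.ker.map (ν.comp g).ker.subtype ≤ g.ker := by
      rintro _ ⟨x, hx, rfl⟩
      exact congrArg Subtype.val hx
    rw [← Subgroup.card_map_of_injective (subtype_injective (ν.comp g).ker) (K := r.ker)]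
    exact Nat.card_le_card_of_injective _ (Subgroup.inclusion_injective hle)
  have h1 := step (ν.comp ν)
  have h2 := step ν
  have htop : Nat.card (ν.comp (ν.comp ν)).ker = Nat.card V := by
    rw [hcube, MonoidHom.ker_one, Subgroup.card_top]
  rw [htop] at h1
  exact h1.trans (Nat.mul_le_mul_right _ h2)

namespace Cfg

variable {G : Type u} [Group G] (c : Cfg G) [Finite G]

/-- Elements of odd order centralizing an involution have trivial cube. -/
theorem cube_eq_one (c : Cfg G) {v x : G} (hv : orderOf v = 2) (hx : x * v = v * x) (ho : Odd (orderOf x)) :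
    x ^ 3 = 1 := by
  obtain ⟨g, hg⟩ := isConj_iff.1 (c.one v hv)
  have hy : g⁻¹ * x * g ∈ centralizer ({c.z} : Set G) := by
    rw [mem_centralizer_singleton_iff]
    change g * c.z * g⁻¹ = v at hg
    rw [← hg] at hx
    calc g⁻¹ * x * g * c.z = g⁻¹ * (x * (g * c.z * g⁻¹)) * g := by group
      _ = g⁻¹ * ((g * c.z * g⁻¹) * x) * g := by rw [hx]
      _ = _ := by group
  obtain ⟨p, hp⟩ := c.mem_C.1 hy
  have h48 : ∀ a : M23, a ^ 48 = 1 := fun a => by
    rw [← GTwoRec.card_M23]; exact pow_card_eq_one'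
  have h : (g⁻¹ * x * g) ^ 48 = 1 := by
    rw [← hp, ← map_pow, c.ker]
    exact Or.inl (Pair.ext' (h48 _) (h48 _))
  have h' : x ^ 48 = 1 := by
    rw [show g⁻¹ * x * g = MulAut.conj g⁻¹ x by simp, ← map_pow] at h
    exact (MulEquiv.map_eq_one_iff _).1 h
  have hd : orderOf x ∣ 16 * 3 := orderOf_dvd_of_pow_eq_one h'
  exact orderOf_dvd_iff_pow_eq_one.1
    (((Nat.coprime_two_right.mpr ho).pow_right 4).dvd_of_dvd_mul_left hd)

/-- The part of the core of `d₁` centralizing `d₂`. -/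
noncomputable def E : Subgroup G := c.core c.d₁ ⊓ centralizer ({c.d₂} : Set G)

theorem d₂_mem_C : c.d₂ ∈ centralizer ({c.d₁} : Set G) :=
  mem_centralizer_singleton_iff.2 c.d_comm.symm

theorem D₁_le_E : c.D₁ ≤ c.E := le_inf c.D₁_le_core (fun x hx =>
  mem_centralizer_singleton_iff.2 (c.D_commute hx (mem_zpowers _)).eq)

theorem d₂_normalizes : c.d₂ ∈ normalizer (c.core c.d₁ : Set G) :=
  c.C_normalizes_core _ c.d₂_mem_C

/-- An element of the core fixed by `d₂` modulo `D₁` is fixed. -/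
theorem mem_E_of_mod {x : G} (hx : x ∈ c.core c.d₁) (h : c.d₂ * x * c.d₂⁻¹ * x⁻¹ ∈ c.D₁) :
    x ∈ c.E := by
  obtain ⟨e, i, he, hze, hi, hzi, rfl⟩ :=
    exists_fixed_mul_inverted (c.odd_core c.d₁) c.z_sq c.z_normalizes_core hx
  have heD : e ∈ c.D₁ := by
    rw [← c.core_inf_z]
    exact ⟨he, (mem_centralizer_iff_conj c.z_sq).2 hze⟩
  have hde : c.d₂ * e * c.d₂⁻¹ = e := by
    rw [(c.D_commute heD (mem_zpowers _)).symm.eq, mul_inv_cancel_right]
  set w := c.d₂ * i * c.d₂⁻¹ * i⁻¹ with hwdef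
  have hw : w ∈ c.D₁ := by
    have hee : c.d₂ * (e * i) * c.d₂⁻¹ * (e * i)⁻¹ = e * w * e⁻¹ := by
      calc c.d₂ * (e * i) * c.d₂⁻¹ * (e * i)⁻¹
          = (c.d₂ * e * c.d₂⁻¹) * (c.d₂ * i * c.d₂⁻¹) * i⁻¹ * e⁻¹ := by group
        _ = _ := by rw [hde, hwdef]; group
    rw [hee] at h
    have := mul_mem (mul_mem (inv_mem heD) h) heD
    convert this using 1
    group
  have hzd : c.z * c.d₂ * c.z = c.d₂ := (mem_centralizer_iff_conj c.z_sq).1 c.d₂_mem
  have hzw : c.z * w * c.z = w := (mem_centralizer_iff_conj c.z_sq).1 (c.d₁_le hw).1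
  have e1 : w = c.d₂ * i⁻¹ * c.d₂⁻¹ * i := by
    rw [← hzw, hwdef, invol_conj_mul c.z_sq, invol_conj_mul c.z_sq, invol_conj_mul c.z_sq,
      invol_conj_inv c.z_sq, invol_conj_inv c.z_sq, hzd, hzi, inv_inv]
  have e2 : c.d₂ * i * c.d₂⁻¹ = w * i := by rw [hwdef]; group
  have e3 : c.d₂ * i⁻¹ * c.d₂⁻¹ = i⁻¹ * w⁻¹ := by
    rw [← mul_inv_rev, ← e2]; group
  rw [e3] at e1
  have hiw : i⁻¹ * w⁻¹ = w⁻¹ * i⁻¹ :=
    (c.D₁_central (inv_mem (c.core_le _ hi)) (inv_mem hw))
  rw [hiw, mul_assoc, inv_mul_cancel, mul_one] at e1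
  have hw1 : w = 1 := by
    refine eq_of_sq_eq (K := c.D₁) (by rw [c.card_D₁]; decide) hw (one_mem _) ?_
    rw [mul_one]
    calc w * w = w * w⁻¹ := by rw [← e1]
      _ = 1 := mul_inv_cancel w
  refine Subgroup.mem_inf.2 ⟨hx, mem_centralizer_singleton_iff.2 ?_⟩
  rw [hw1, one_mul] at e2
  have hic : i * c.d₂ = c.d₂ * i := (mul_inv_eq_iff_eq_mul.1 e2).symm
  have hec : e * c.d₂ = c.d₂ * e := (c.D_commute heD (mem_zpowers _)).eq
  exact (Commute.mul_left (show Commute e c.d₂ from hec) (show Commute i c.d₂ from hic)).eq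

theorem upper_quarter : upper * (quarter * upper * quarter⁻¹) * upper = quarter := M23.ext_val (by
  simp only [Units.val_mul]; decide)

theorem k₂_eq : c.d₂ * (c.k₂ * c.d₂ * c.k₂⁻¹) * c.d₂ = c.k₂ := by
  rw [d₂, k₂, ← map_inv, ← map_mul, ← map_mul, ← map_mul, ← map_mul]
  exact congrArg c.φ (Pair.ext' (by simp [pD2, pK2]) upper_quarter)

set_option maxHeartbeats 800000 in
theorem card_E : Nat.card ↥c.E = 3 * c.a := by
  set O := c.core c.d₁ with hO
  haveI hn : (c.D₁.subgroupOf O).Normal := (normal_subgroupOf_iff_le_normalizer c.D₁_le_core).2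
    fun x hx => mem_normalizer_of_conj fun d hd => by
      rw [c.D₁_central (c.core_le _ hx) hd, mul_inv_cancel_right]; exact hd
  let mk := QuotientGroup.mk' (c.D₁.subgroupOf O)
  have hmk : ∀ x y : O, mk x = mk y ↔ (x : G)⁻¹ * y ∈ c.D₁ := fun x y => QuotientGroup.eq
  letI : CommGroup (O ⧸ c.D₁.subgroupOf O) :=
    { (inferInstance : Group (O ⧸ c.D₁.subgroupOf O)) with
      mul_comm := fun p q => by
        obtain ⟨x, rfl⟩ := QuotientGroup.mk'_surjective _ p
        obtain ⟨y, rfl⟩ := QuotientGroup.mk'_surjective _ q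
        rw [← map_mul, ← map_mul]
        refine (hmk _ _).2 ?_
        have h := c.comm_mem_D₁ (inv_mem y.2) (inv_mem x.2)
        convert h using 1
        simp [commutatorElement_def, mul_assoc] }
  let act : ∀ g : G, g ∈ centralizer ({c.d₁} : Set G) →
      (O ⧸ c.D₁.subgroupOf O →* O ⧸ c.D₁.subgroupOf O) := fun g hg =>
    QuotientGroup.lift _ (mk.comp (MonoidHom.mk'
      (fun x : O => (⟨g * x * g⁻¹, conj_mem' (c.C_normalizes_core _ hg) x.2⟩ : O))
      (fun x y => Subtype.ext (by simp [mul_assoc])))) fun x hx => by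
      rw [MonoidHom.mem_ker, MonoidHom.comp_apply, QuotientGroup.mk'_apply, QuotientGroup.eq_one_iff]
      show g * (x : G) * g⁻¹ ∈ c.D₁
      rw [c.D₁_central hg (show (x : G) ∈ c.D₁ from hx), mul_inv_cancel_right]
      exact hx
  have hact : ∀ g hg (x : O), act g hg (mk x) =
      mk ⟨g * x * g⁻¹, conj_mem' (c.C_normalizes_core _ hg) x.2⟩ := fun g hg x => rfl
  set f := act c.d₂ c.d₂_mem_C
  set κ := act c.k₂ c.k₂_mem_C
  set ν := f / MonoidHom.id (O ⧸ c.D₁.subgroupOf O)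
  have hf : ∀ v, f (f (f v)) = v := by
    intro v
    obtain ⟨x, rfl⟩ := QuotientGroup.mk'_surjective _ v
    show f (f (f (mk x))) = mk x
    simp only [f, hact]
    refine congrArg mk (Subtype.ext ?_)
    show c.d₂ * (c.d₂ * (c.d₂ * (x : G) * c.d₂⁻¹) * c.d₂⁻¹) * c.d₂⁻¹ = x
    calc c.d₂ * (c.d₂ * (c.d₂ * (x : G) * c.d₂⁻¹) * c.d₂⁻¹) * c.d₂⁻¹
        = c.d₂ ^ 3 * x * (c.d₂ ^ 3)⁻¹ := by simp [pow_succ, mul_assoc]
      _ = x := by rw [c.d₂_cube]; group
  have hsix : ∀ (s : G), orderOf s = 2 → s ∈ normalizer (c.D₁ : Set G) → ∀ x : O,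
      (x : G)⁻¹ * (s * x * s⁻¹) ∈ c.D₁ → mk x ^ 3 = 1 := by
    intro s hs hsD x hx
    have hs2 : s * s = 1 := by rw [← pow_two, ← hs, pow_orderOf_eq_one]
    obtain ⟨y, hy, hys⟩ := GTwoRec.exists_fixed_of_coset (N := c.D₁)
      (by rw [c.card_D₁]; decide) hs2 hsD hx
    have hyO : y ∈ O := by
      have := mul_mem x.2 (c.D₁_le_core hy)
      rwa [mul_inv_cancel_left] at this
    have hy3 : y ^ 3 = 1 := c.cube_eq_one hs (mul_inv_eq_iff_eq_mul.1 hys).symm
      (odd_orderOf_of_mem (c.odd_core _) hyO)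
    rw [show mk x = mk ⟨y, hyO⟩ from (hmk _ _).2 hy, ← map_pow]
    exact (congrArg mk (Subtype.ext hy3)).trans (map_one mk)
  have hzt2 : orderOf (c.z * c.t) = 2 := by
    rw [← c.k₂_t, show c.k₂ * c.t * c.k₂⁻¹ = MulAut.conj c.k₂ c.t from rfl, MulEquiv.orderOf_eq,
      c.orderOf_t]
  have htD : c.t ∈ normalizer (c.D₁ : Set G) := mem_normalizer_of_conj fun d hd => by
    rw [inv_eq_of_mul_eq_one_right c.t_sq, c.t_conj_P (c.D₁_le_P hd)]
    exact inv_mem hd
  have hzD : c.z ∈ normalizer (c.D₁ : Set G) := mem_normalizer_of_conj fun d hd => by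
    rw [c.z_comm_of_mem (c.d₁_le hd).1, mul_inv_cancel_right]
    exact hd
  have h3 : ∀ v : O ⧸ c.D₁.subgroupOf O, v ^ 3 = 1 := by
    intro v
    obtain ⟨x, rfl⟩ := QuotientGroup.mk'_surjective _ v
    show mk x ^ 3 = 1
    have htc : c.t⁻¹ = c.t := inv_eq_of_mul_eq_one_right c.t_sq
    set y : O := ⟨c.t * x * c.t⁻¹, conj_mem' c.t_normalizes_core x.2⟩ with hy
    have hz : ∀ w : O, mk ⟨c.z * w * c.z⁻¹, conj_mem' c.z_normalizes_core w.2⟩ = (mk w)⁻¹ := by
      intro w
      rw [← map_inv, hmk]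
      show (c.z * (w : G) * c.z⁻¹)⁻¹ * (w : G)⁻¹ ∈ c.D₁
      have h := inv_mem (c.conj_mul_self_mem w.2)
      rw [inv_eq_of_mul_eq_one_right c.z_sq, ← mul_inv_rev]
      have h' := c.D₁_central (c.core_le _ w.2) (c.conj_mul_self_mem w.2)
      convert h using 2
      calc (w : G) * (c.z * w * c.z) = (w : G) * (c.z * w * c.z * w) * (w : G)⁻¹ := by group
        _ = c.z * w * c.z * w := by rw [h', mul_inv_cancel_right]
    have hp : mk (x * y) ^ 3 = 1 := by
      refine hsix c.t c.orderOf_t htD _ ((hmk _ ⟨c.t * (x * y : O) * c.t⁻¹, conj_mem' c.t_normalizes_core (x * y).2⟩).1 ?_)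
      rw [map_mul, mul_comm, ← map_mul]
      refine congrArg mk (Subtype.ext ?_)
      show c.t * (x : G) * c.t⁻¹ * x = c.t * ((x : G) * (c.t * (x : G) * c.t⁻¹)) * c.t⁻¹
      rw [htc]
      calc c.t * (x : G) * c.t * x = c.t * (x : G) * c.t * x * (c.t * c.t) := by
            rw [c.t_sq, mul_one]
        _ = _ := by
          calc _ = c.t * ((x : G) * c.t * x * c.t) * c.t := by group
            _ = _ := by group
    have hq : mk (x * y⁻¹) ^ 3 = 1 := by
      have hztn : c.z * c.t ∈ normalizer (O : Set G) := mul_mem c.z_normalizes_core c.t_normalizes_core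
      refine hsix _ hzt2 (mul_mem hzD htD) _ ((hmk _ ⟨c.z * c.t * (x * y⁻¹ : O) * (c.z * c.t)⁻¹, conj_mem' hztn (x * y⁻¹).2⟩).1 ?_)
      have e : (⟨c.z * c.t * (x * y⁻¹ : O) * (c.z * c.t)⁻¹, conj_mem' hztn (x * y⁻¹).2⟩ : O) =
          ⟨c.z * (y * x⁻¹ : O) * c.z⁻¹, conj_mem' c.z_normalizes_core (y * x⁻¹).2⟩ := by
        refine Subtype.ext ?_
        show c.z * c.t * ((x : G) * (c.t * (x : G) * c.t⁻¹)⁻¹) * (c.z * c.t)⁻¹ =
          c.z * (c.t * (x : G) * c.t⁻¹ * (x : G)⁻¹) * c.z⁻¹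
        rw [mul_inv_rev c.z c.t, htc]
        calc c.z * c.t * ((x : G) * (c.t * x * c.t)⁻¹) * (c.t * c.z⁻¹)
            = c.z * (c.t * x * c.t⁻¹) * (x : G)⁻¹ * (c.t⁻¹ * c.t) * c.z⁻¹ := by group
          _ = _ := by rw [htc, c.t_sq]; group
      rw [e, hz, map_mul, map_mul, map_inv, map_inv, mul_inv_rev, inv_inv]
    have h6 : (mk x ^ 3) * (mk x ^ 3) = 1 := by
      have : mk (x * y) * mk (x * y⁻¹) = mk x * mk x := by
        rw [map_mul, map_mul, map_inv, mul_mul_mul_comm, mul_inv_cancel, mul_one]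
      rw [← mul_pow, ← this, mul_pow, hp, hq, one_mul]
    have hodd : Odd (Nat.card (O ⧸ c.D₁.subgroupOf O)) :=
      (c.odd_core c.d₁).of_dvd_nat (Subgroup.card_quotient_dvd_card _)
    exact eq_of_sq_eq (K := (⊤ : Subgroup (O ⧸ c.D₁.subgroupOf O))) (by rwa [Subgroup.card_top])
      trivial trivial (by rw [h6, one_mul])
  have hmem : ∀ x : O, mk x ∈ ν.ker ↔ (x : G) ∈ c.E := by
    intro x
    rw [MonoidHom.mem_ker]
    show f (mk x) / mk x = 1 ↔ _
    rw [div_eq_one, eq_comm, hact _ c.d₂_mem_C, hmk]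
    constructor
    · intro h
      refine c.mem_E_of_mod x.2 ?_
      have := c.D₁_central (c.core_le _ x.2) h
      change (x : G)⁻¹ * (c.d₂ * x * c.d₂⁻¹) ∈ c.D₁ at h
      have e : c.d₂ * (x : G) * c.d₂⁻¹ * (x : G)⁻¹ =
          (x : G) * ((x : G)⁻¹ * (c.d₂ * x * c.d₂⁻¹)) * (x : G)⁻¹ := by group
      rw [e, c.D₁_central (c.core_le _ x.2) h, mul_inv_cancel_right]
      exact h
    · intro h
      show (x : G)⁻¹ * (c.d₂ * x * c.d₂⁻¹) ∈ c.D₁
      rw [← mem_centralizer_singleton_iff.1 h.2, mul_inv_cancel_right, inv_mul_cancel]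
      exact one_mem _
  have hcard : Nat.card ↥c.E = 3 * Nat.card ν.ker := by
    have hEO : c.E ≤ O := inf_le_left
    let r : c.E →* ν.ker := (mk.comp (Subgroup.inclusion hEO)).codRestrict ν.ker
      fun x => (hmem _).2 x.2
    have hs : Function.Surjective r := by
      rintro ⟨v, hv⟩
      obtain ⟨x, rfl⟩ := QuotientGroup.mk'_surjective _ v
      exact ⟨⟨x, (hmem x).1 hv⟩, rfl⟩
    have hk : r.ker = c.D₁.subgroupOf c.E := by
      ext x
      rw [MonoidHom.mem_ker, mem_subgroupOf, Subtype.ext_iff]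
      exact QuotientGroup.eq_one_iff _
    have h := Subgroup.card_mul_index r.ker
    rw [Subgroup.index_ker, MonoidHom.range_eq_top.2 hs, Subgroup.card_top, hk,
      Nat.card_congr (subgroupOfEquivOfLe c.D₁_le_E).toEquiv, c.card_D₁] at h
    exact h.symm
  have hV : Nat.card (O ⧸ c.D₁.subgroupOf O) = c.a * c.a := by
    have h := Subgroup.card_eq_card_quotient_mul_card_subgroup (c.D₁.subgroupOf O)
    rw [Nat.card_congr (subgroupOfEquivOfLe c.D₁_le_core).toEquiv, c.card_D₁, c.card_core] at h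
    linarith
  have hlow := card_le_fixed_cube f hf h3
  have hinj : ∀ v, κ v = 1 → v = 1 := by
    intro v hv
    obtain ⟨x, rfl⟩ := QuotientGroup.mk'_surjective _ v
    rw [hact _ c.k₂_mem_C, QuotientGroup.mk'_apply, QuotientGroup.eq_one_iff] at hv
    refine (QuotientGroup.eq_one_iff _).2 ?_
    show (x : G) ∈ c.D₁
    have hv' : c.k₂ * (x : G) * c.k₂⁻¹ ∈ c.D₁ := hv
    have := c.D₁_central (inv_mem c.k₂_mem_C) hv'
    have e : (x : G) = c.k₂⁻¹ * (c.k₂ * x * c.k₂⁻¹) * c.k₂ := by group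
    rw [e, this, inv_mul_cancel_right]
    exact hv'
  have hhigh : Nat.card ν.ker * Nat.card ν.ker ≤ Nat.card (O ⧸ c.D₁.subgroupOf O) := by
    conv_lhs => arg 2; rw [← Subgroup.card_map_of_injective
      ((injective_iff_map_eq_one κ).2 hinj) (K := ν.ker)]
    rw [← Subgroup.card_top (G := O ⧸ c.D₁.subgroupOf O)]
    refine GTwoRec.card_mul_le_of_inf_eq_bot le_top le_top (eq_bot_iff.2 ?_)
    rintro v ⟨hv1, w, hw, hwv⟩
    rw [Subgroup.mem_bot]
    obtain ⟨x, rfl⟩ := QuotientGroup.mk'_surjective _ w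
    set x' : O := ⟨c.k₂ * x * c.k₂⁻¹, conj_mem' (c.C_normalizes_core _ c.k₂_mem_C) x.2⟩
    have hv' : v = mk x' := hwv.symm
    rw [hv'] at hv1 ⊢
    have h1 : (x' : G) * c.d₂ = c.d₂ * x' :=
      mem_centralizer_singleton_iff.1 ((hmem x').1 hv1).2
    have h2 : (x' : G) * (c.k₂ * c.d₂ * c.k₂⁻¹) = c.k₂ * c.d₂ * c.k₂⁻¹ * x' := by
      have h := mem_centralizer_singleton_iff.1 ((hmem x).1 hw).2
      calc (x' : G) * (c.k₂ * c.d₂ * c.k₂⁻¹) = c.k₂ * ((x : G) * c.d₂) * c.k₂⁻¹ := by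
            show c.k₂ * (x : G) * c.k₂⁻¹ * (c.k₂ * c.d₂ * c.k₂⁻¹) = _
            group
        _ = c.k₂ * (c.d₂ * (x : G)) * c.k₂⁻¹ := by rw [h]
        _ = _ := by
            show _ = c.k₂ * c.d₂ * c.k₂⁻¹ * (c.k₂ * (x : G) * c.k₂⁻¹)
            group
    have h3 : Commute (x' : G) c.k₂ := by
      rw [← c.k₂_eq]
      exact ((show Commute (x' : G) c.d₂ from h1).mul_right h2).mul_right h1
    have hz : (x' : G) ∈ centralizer ({c.z} : Set G) := by
      rw [mem_centralizer_singleton_iff, ← c.k₂_sq]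
      exact (h3.mul_right h3).eq
    exact (QuotientGroup.eq_one_iff _).2 (c.core_inf_z.le ⟨x'.2, hz⟩)
  have hdvd : Nat.card ν.ker ∣ c.a * c.a := hV ▸ Subgroup.card_subgroup_dvd_card _
  rw [hcard]
  congr 1
  change Nat.card _ ≤ Nat.card ν.ker * Nat.card ν.ker * Nat.card ν.ker at hlow
  rw [hV] at hlow hhigh
  generalize Nat.card ν.ker = n at hlow hhigh hdvd ⊢
  rcases c.a_cases with ha | ha | ha <;> rw [ha] at hlow hhigh hdvd ⊢
  · exact Nat.dvd_one.1 hdvd
  · have hn : n ≤ 3 := Nat.mul_self_le_mul_self_iff.1 hhigh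
    interval_cases n <;> omega
  · have hn : n ≤ 9 := Nat.mul_self_le_mul_self_iff.1 hhigh
    interval_cases n <;> omega

end Cfg

end Cfsg.Agent.H32.GTwoTwoLocal
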