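import Cfsg.Agent.H32.GTwoTwoLocal.Setup

/-!
Finite facts in `GL(2,3)` used to compute inside the centralizer of the involution.
-/

set_option autoImplicit false

namespace Cfsg.Agent.H32.GTwoTwoLocal

open Subgroup
open Cfsg.Agent.H32.GTwoRec (M23 upper lower Mat3)

/-- A quaternion element anticommuting with `quarter`. -/
def quarter' : M23 := ⟨!![1, 1; 1, 2], !![2, 2; 2, 1], by decide, by decide⟩

theorem M23.ext_val {a b : M23} (h : (a : Mat3) = b) : a = b := Units.ext h

theorem forall_M23 {P : Mat3 → Prop} (h : ∀ m : Mat3, m.det ≠ 0 → P m) (a : M23) : P a :=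
  h a fun h0 => by
    have := congrArg Matrix.det (Units.mul_inv a)
    rw [Matrix.det_mul, h0, zero_mul, Matrix.det_one] at this
    exact one_ne_zero this.symm

theorem val_neg (a : M23) : ((-a : M23) : Mat3) = -(a : Mat3) := Units.val_neg a

theorem det_eq_one_iff (a : M23) :
    Matrix.GeneralLinearGroup.det a = 1 ↔ (a : Mat3).det = 1 := Units.ext_iff

set_option maxRecDepth 20000 in
theorem comm_upper {a : M23} (h : a * upper = upper * a) :
    ∃ i : Fin 3, a = upper ^ (i : ℕ) ∨ a = -upper ^ (i : ℕ) := by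
  have key : ∀ m : Mat3, m.det ≠ 0 → m * !![1, 1; 0, 1] = !![1, 1; 0, 1] * m →
      ∃ i : Fin 3, m = !![1, ((i : ℕ) : ZMod 3); 0, 1] ∨ m = -!![1, ((i : ℕ) : ZMod 3); 0, 1] := by decide
  obtain ⟨i, hi⟩ := forall_M23 key a (congrArg Units.val h)
  refine ⟨i, hi.imp (fun e => M23.ext_val ?_) (fun e => M23.ext_val ?_)⟩
  · rw [e, GTwoRec.val_upper_pow]
  · rw [val_neg, e, GTwoRec.val_upper_pow]

set_option maxRecDepth 20000 in
theorem not_anti_upper (a : M23) : a * upper ≠ -(upper * a) := by
  intro h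
  have key : ∀ m : Mat3, m.det ≠ 0 → m * !![1, 1; 0, 1] ≠ -(!![1, 1; 0, 1] * m) := by decide
  exact forall_M23 key a (by simpa [val_neg, upper] using congrArg Units.val h)

set_option maxRecDepth 20000 in
theorem eq_pm_one_of_comm_quarters {a : M23} (hd : Matrix.GeneralLinearGroup.det a = 1)
    (h : a * quarter = quarter * a) (h' : a * quarter' = quarter' * a) : a = 1 ∨ a = -1 := by
  have key : ∀ m : Mat3, m.det ≠ 0 → m.det = 1 → m * !![0, 1; 2, 0] = !![0, 1; 2, 0] * m →
      m * !![1, 1; 1, 2] = !![1, 1; 1, 2] * m → m = 1 ∨ m = -1 := by decide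
  obtain e | e := forall_M23 key a ((det_eq_one_iff a).1 hd) (congrArg Units.val h)
    (congrArg Units.val h')
  · exact Or.inl (M23.ext_val e)
  · exact Or.inr (M23.ext_val (by rw [val_neg]; exact e))

set_option maxRecDepth 20000 in
theorem comm_delta_cube {a : M23} (h3 : a ^ 3 = 1)
    (h : a * delta = delta * a ∨ a * delta = -(delta * a)) : a = 1 := by
  have key : ∀ m : Mat3, m.det ≠ 0 → m * m * m = 1 →
      (m * !![2, 0; 0, 1] = !![2, 0; 0, 1] * m ∨ m * !![2, 0; 0, 1] = -(!![2, 0; 0, 1] * m)) →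
      m = 1 := by decide
  refine M23.ext_val (forall_M23 key a ?_ (h.imp (congrArg Units.val) fun e => ?_))
  · rw [← Units.val_mul, ← Units.val_mul, ← pow_three', h3, Units.val_one]
  · simpa [val_neg, delta] using congrArg Units.val e

set_option maxRecDepth 20000 in
/-- An element of determinant one with trivial cube is conjugate under determinant one to a power
of the upper unipotent. -/
theorem exists_conj_pow {a : M23} (h3 : a ^ 3 = 1) :
    ∃ k : M23, Matrix.GeneralLinearGroup.det k = 1 ∧ ∃ i : Fin 3,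
      k * a * k⁻¹ = upper ^ (i : ℕ) := by
  have key : ∀ m : Mat3, m.det ≠ 0 → m * m * m = 1 → ∃ p ∈ [(1 : Mat3), !![0, 1; 2, 0],
      !![1, 1; 1, 2] * !![0, 1; 2, 0], !![1, 1; 1, 2]], ∃ i : Fin 3,
      p.det = 1 ∧ p * m = !![1, ((i : ℕ) : ZMod 3); 0, 1] * p := by decide
  obtain ⟨p, -, i, hp, hpm⟩ := forall_M23 key a (by
    rw [← Units.val_mul, ← Units.val_mul, ← pow_three', h3, Units.val_one])
  let k : M23 := Matrix.GeneralLinearGroup.mkOfDetNeZero p (by rw [hp]; exact one_ne_zero)
  refine ⟨k, (det_eq_one_iff k).2 hp, i, mul_inv_eq_iff_eq_mul.2 (M23.ext_val ?_)⟩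
  rw [Units.val_mul, Units.val_mul, GTwoRec.val_upper_pow]
  exact hpm

theorem det_cube {a : M23} (h3 : a ^ 3 = 1) : Matrix.GeneralLinearGroup.det a = 1 := by
  have h := congrArg Matrix.GeneralLinearGroup.det h3
  rw [map_pow, map_one] at h
  obtain e | e := GTwoRec.unit_eq_or (Matrix.GeneralLinearGroup.det a)
  · exact e
  · exfalso
    rw [e] at h
    exact absurd h (by decide)

theorem quarter_sq : quarter * quarter = -1 := M23.ext_val (by
  rw [Units.val_mul, val_neg, Units.val_one]; decide)

theorem det_quarter' : Matrix.GeneralLinearGroup.det quarter' = 1 :=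
  (det_eq_one_iff _).2 (by decide)

/-- The quaternion subgroup of `GL(2,3)`. -/
def qval : QuaternionGroup 2 → M23
  | .a i => quarter ^ (i.val)
  | .xa i => quarter' * quarter ^ (i.val)

theorem qval_mul (p q : QuaternionGroup 2) : qval (p * q) = qval p * qval q := by
  have key : ∀ p q : QuaternionGroup 2, (qval (p * q) : Mat3) = (qval p : Mat3) * qval q := by
    decide
  exact M23.ext_val ((key p q).trans (Units.val_mul _ _).symm)

theorem qval_det (p : QuaternionGroup 2) : Matrix.GeneralLinearGroup.det (qval p) = 1 := by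
  have key : ∀ p : QuaternionGroup 2, (qval p : Mat3).det = 1 := by decide
  exact (det_eq_one_iff _).2 (key p)

theorem qval_eq_one {p : QuaternionGroup 2} (h : qval p = 1) : p = 1 := by
  have key : ∀ p : QuaternionGroup 2, (qval p : Mat3) = 1 → p = 1 := by decide
  exact key p (by rw [h, Units.val_one])

/-- `SL(2,3)` has order 24. -/
theorem card_det_one : Nat.card (Matrix.GeneralLinearGroup.det (n := Fin 2) (R := ZMod 3)).ker = 24 := by
  have hi : (Matrix.GeneralLinearGroup.det (n := Fin 2) (R := ZMod 3)).ker.index = 2 := by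
    rw [Subgroup.index_ker, MonoidHom.range_eq_top.2 ?_, Subgroup.card_top, Nat.card_units,
      Nat.card_zmod]
    intro u
    obtain rfl | rfl := GTwoRec.unit_eq_or u
    · exact ⟨1, map_one _⟩
    · exact ⟨delta, Units.ext (show (delta : Mat3).det = _ by decide)⟩
  have h := Subgroup.card_mul_index (Matrix.GeneralLinearGroup.det (n := Fin 2) (R := ZMod 3)).ker
  rw [hi, GTwoRec.card_M23] at h
  omega

end Cfsg.Agent.H32.GTwoTwoLocal
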