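import Cfsg.Agent.H32.GTwoRec.GL
import Cfsg.Prelude.Def_Local

/-!
The configuration of the 2-local recognition of `G₂(3)`: the centralizer of an involution is a
quotient of the group of pairs of elements of `GL(2,3)` with equal determinants.
-/

set_option autoImplicit false

namespace Cfsg.Agent.H32.GTwoTwoLocal

open Subgroup
open Cfsg.Agent.H32.GTwoRec (M23 upper lower)

universe u

/-- Pairs of elements of `GL(2,3)` with equal determinants. -/
def Pair : Subgroup (M23 × M23) :=
  (Matrix.GeneralLinearGroup.det.comp (MonoidHom.fst M23 M23)).eqLocus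
    (Matrix.GeneralLinearGroup.det.comp (MonoidHom.snd M23 M23))

theorem mem_Pair {p : M23 × M23} :
    p ∈ Pair ↔ Matrix.GeneralLinearGroup.det p.1 = Matrix.GeneralLinearGroup.det p.2 := Iff.rfl

/-- The reflection `diag (-1, 1)`. -/
def delta : M23 := ⟨!![2, 0; 0, 1], !![2, 0; 0, 1], by decide, by decide⟩

/-- A quarter turn. -/
def quarter : M23 := ⟨!![0, 1; 2, 0], !![0, 2; 1, 0], by decide, by decide⟩

theorem det_upper : Matrix.GeneralLinearGroup.det upper = 1 := by
  refine Units.ext ?_
  show Matrix.det (upper : GTwoRec.Mat3) = 1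
  decide

theorem det_quarter : Matrix.GeneralLinearGroup.det quarter = 1 := by
  refine Units.ext ?_
  show Matrix.det (quarter : GTwoRec.Mat3) = 1
  decide

theorem one_det {a : M23} (h : Matrix.GeneralLinearGroup.det a = 1) : ((a, 1) : M23 × M23) ∈ Pair := by
  rw [mem_Pair, h, map_one]

theorem det_one' {a : M23} (h : Matrix.GeneralLinearGroup.det a = 1) : ((1, a) : M23 × M23) ∈ Pair := by
  rw [mem_Pair, h, map_one]

def pD1 : Pair := ⟨(upper, 1), one_det det_upper⟩
def pD2 : Pair := ⟨(1, upper), det_one' det_upper⟩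
def pK1 : Pair := ⟨(quarter, 1), one_det det_quarter⟩
def pK2 : Pair := ⟨(1, quarter), det_one' det_quarter⟩
def pT : Pair := ⟨(delta, delta), rfl⟩
def pZ : Pair := ⟨(-1, 1), one_det GTwoRec.det_neg_one⟩

/-- The kernel of the central product. -/
def pNeg : Pair := ⟨(-1, -1), rfl⟩

/-- The configuration: `φ` maps `Pair` onto the centralizer of the image of `(-1, 1)` with kernel
generated by `(-1, -1)`, there is a single class of involutions and `G` has `3`-length above `1`. -/
structure Cfg (G : Type u) [Group G] where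
  φ : Pair →* G
  ker : ∀ p, φ p = 1 ↔ p = 1 ∨ p = pNeg
  range : φ.range = centralizer ({φ pZ} : Set G)
  one : ∀ v : G, orderOf v = 2 → IsConj (φ pZ) v
  plen : ¬ Cfsg.PLengthLE 3 1 G

namespace Cfg

variable {G : Type u} [Group G] (c : Cfg G)

def z : G := c.φ pZ
def t : G := c.φ pT
def d₁ : G := c.φ pD1
def d₂ : G := c.φ pD2
def k₁ : G := c.φ pK1
def k₂ : G := c.φ pK2
def D₁ : Subgroup G := zpowers c.d₁
def D₂ : Subgroup G := zpowers c.d₂
/-- The odd core of the centralizer of an element. -/
noncomputable def core (_c : Cfg G) (x : G) : Subgroup G :=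
  (Cfsg.oddCore ↥(centralizer ({x} : Set G))).map (centralizer ({x} : Set G)).subtype

end Cfg

end Cfsg.Agent.H32.GTwoTwoLocal
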